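import Cfsg.Agent.IsolRankTwo.Fusion
import Cfsg.Agent.FGSA.Blackburn
import Cfsg.Agent.FGSA.MaximalClassAvoid
import Cfsg.Agent.FGSA.MetacyclicAct
import Cfsg.Agent.S0638
import Cfsg.Agent.S3049

/-!
Sylow subgroups of Blackburn's types in a perfect group with an isolated element of order `p`.
-/

set_option autoImplicit false
set_option linter.unusedSectionVars false
set_option linter.unusedVariables false
set_option linter.style.haveILetI false

namespace CfsgLib.IsolRankTwo

open Subgroup CfsgLib.Functor CfsgLib.StrongAlperin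
open scoped CfsgLib.Functor commutatorElement

section Abstract

variable {R : Type*} [Group R]

/-- If generators commute modulo a normal subgroup, so do all elements. -/
theorem derived_le_of_gens {S : Set R} (hS : closure S = ⊤) (N : Subgroup R) [N.Normal]
    (h : ∀ a ∈ S, ∀ b ∈ S, ⁅a, b⁆ ∈ N) (u v : R) : ⁅u, v⁆ ∈ N := by
  set π := QuotientGroup.mk' N with hπ
  have hc : IsMulCommutative (closure (π '' S)) := by
    refine Subgroup.isMulCommutative_closure ?_
    rintro _ ⟨a, ha, rfl⟩ _ ⟨b, hb, rfl⟩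
    exact commutatorElement_eq_one_iff_mul_comm.1 (by
      rw [← map_commutatorElement]; exact (QuotientGroup.eq_one_iff _).2 (h a ha b hb))
  have htop : closure (π '' S) = ⊤ := by
    rw [← MonoidHom.map_closure, hS, map_top_of_surjective _ (QuotientGroup.mk'_surjective _)]
  have hmem : ∀ q, q ∈ closure (π '' S) := fun q => htop ▸ mem_top q
  refine (QuotientGroup.eq_one_iff _).1 ?_
  show π ⁅u, v⁆ = 1
  rw [map_commutatorElement, commutatorElement_eq_one_iff_mul_comm]
  exact congrArg Subtype.val (hc.is_comm.comm ⟨π u, hmem _⟩ ⟨π v, hmem _⟩)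

theorem mem_center_of_gens {S : Set R} (hS : closure S = ⊤) {c : R} (h : ∀ a ∈ S, a * c = c * a) :
    c ∈ center R := by
  refine mem_center_iff.2 fun g => ?_
  have hle : closure S ≤ centralizer ({c} : Set R) :=
    (closure_le _).2 fun a ha => mem_centralizer_singleton_iff.2 (h a ha)
  exact mem_centralizer_singleton_iff.1 (hle (hS ▸ mem_top g))

variable [Finite R] {p : ℕ} [hpf : Fact p.Prime]

/-- Class two, derived subgroup of exponent `p`. -/
theorem pow_mul_class_two (hp : p ≠ 2) (hR : IsPGroup p R)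
    (h : ∀ u v : R, ⁅u, v⁆ ∈ center R ∧ ⁅u, v⁆ ^ p = 1) (u v : R) :
    (u * v) ^ p = u ^ p * v ^ p := by
  have hcl : (⊤ : Subgroup R).lowerCentralSeries (p - 1) = ⊥ := by
    refine le_bot_iff.1 (((⊤ : Subgroup R).lowerCentralSeries_antitone
      (show 2 ≤ p - 1 by have := hpf.out.two_le; omega)).trans ?_)
    rw [Subgroup.lowerCentralSeries_succ, Subgroup.lowerCentralSeries_succ, Subgroup.lowerCentralSeries_zero]
    refine (commutator_mono (K₁ := center R) (commutator_le.2 fun a _ b _ => (h a b).1) le_rfl).trans ?_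
    exact commutator_le.2 fun a ha b _ => mem_bot.2 (commutatorElement_eq_one_iff_mul_comm.2
      (mem_center_iff.1 ha b).symm)
  have law : FGSA.Regular.PowLaw p 1 R := fun a b =>
    (FGSA.Regular.isRegular_of_class_lt hR hcl).2 a b 1
  simpa using FGSA.Regular.pow_mul_of_commutator hR law (a := u) (b := v)
    (by rw [pow_one]; exact (h u v).2) (subset_closure (Set.mem_insert _ _))
    (subset_closure (Set.mem_insert_of_mem _ rfl))

/-- Size of a group generated by `x` and an abelian subgroup `⟨y⟩⟨z⟩` it normalises. -/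
theorem card_le_three {x y z : R} (hgen : closure ({x, y, z} : Set R) = ⊤) (hyz : y * z = z * y)
    (hy : x⁻¹ * y * x ∈ zpowers y ⊔ zpowers z) (hz : x⁻¹ * z * x ∈ zpowers y ⊔ zpowers z) :
    Nat.card R ≤ orderOf x * (orderOf y * orderOf z) := by
  set A := zpowers y ⊔ zpowers z with hA
  have hyn : zpowers y ≤ normalizer (zpowers z : Set R) := by
    rw [zpowers_le]
    refine centralizer_le_normalizer _ (mem_centralizer_iff.2 fun u hu => ?_)
    obtain ⟨i, rfl⟩ := mem_zpowers_iff.1 hu
    exact ((show Commute z y from hyz.symm).zpow_left i).eq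
  have hxn : x⁻¹ ∈ normalizer (A : Set R) := by
    rw [mem_normalizer_iff_cj]
    refine eq_of_le_of_card_le' ?_ (card_cj _ _).ge
    rw [hA, Subgroup.map_sup, MonoidHom.map_zpowers, MonoidHom.map_zpowers, sup_le_iff, zpowers_le,
      zpowers_le]
    exact ⟨by simpa using hy, by simpa using hz⟩
  have htop : zpowers x ⊔ A = ⊤ := by
    rw [← top_le_iff, ← hgen, closure_le]
    rintro u (rfl | rfl | rfl)
    · exact mem_sup_left (mem_zpowers _)
    · exact mem_sup_right (mem_sup_left (mem_zpowers _))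
    · exact mem_sup_right (mem_sup_right (mem_zpowers _))
  have h1 := Solvable.card_sup_mul_card_inf
    (zpowers_le.2 (inv_inv x ▸ inv_mem hxn) : zpowers x ≤ normalizer (A : Set R))
  have h2 := Solvable.card_sup_mul_card_inf hyn
  rw [htop, card_top, Nat.card_zpowers] at h1
  rw [Nat.card_zpowers, Nat.card_zpowers, ← hA] at h2
  calc Nat.card R ≤ Nat.card R * Nat.card ↥(zpowers x ⊓ A) :=
        Nat.le_mul_of_pos_right _ Nat.card_pos
    _ = orderOf x * Nat.card A := h1
    _ ≤ orderOf x * (Nat.card A * Nat.card ↥(zpowers y ⊓ zpowers z)) :=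
        Nat.mul_le_mul_left _ (Nat.le_mul_of_pos_right _ Nat.card_pos)
    _ = _ := by rw [h2]

theorem pow_ne_one_of_count {n : ℕ} (hn : 3 ≤ n) (hR : Nat.card R = p ^ n) {x y z : R}
    (hgen : closure ({x, y, z} : Set R) = ⊤) (hx : x ^ p = 1) (hy : y ^ p = 1)
    (hyz : y * z = z * y) (h1 : x⁻¹ * y * x ∈ zpowers y ⊔ zpowers z)
    (h2 : x⁻¹ * z * x ∈ zpowers y ⊔ zpowers z) : z ^ p ^ (n - 3) ≠ 1 := by
  intro h
  have hc := card_le_three hgen hyz h1 h2
  have hle : ∀ {w : R} {k : ℕ}, w ^ k = 1 → 0 < k → orderOf w ≤ k := fun hw hk =>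
    orderOf_le_of_pow_eq_one hk hw
  have := hc.trans (Nat.mul_le_mul (hle hx hpf.out.pos) (Nat.mul_le_mul (hle hy hpf.out.pos)
    (hle h (pow_pos hpf.out.pos _))))
  rw [hR, ← pow_succ', ← pow_succ', Nat.pow_le_pow_iff_right hpf.out.one_lt] at this
  omega

theorem zpowers_eq_of_order_p {a b : R} (ha : a ^ p = 1) (hb : b ^ p = 1) (hb1 : b ≠ 1)
    (h : b ∈ zpowers a) : zpowers b = zpowers a := by
  refine Subgroup.eq_of_le_of_card_ge (zpowers_le.2 h) ?_
  rw [Nat.card_zpowers, Nat.card_zpowers, orderOf_eq_prime hb hb1]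
  exact orderOf_le_of_pow_eq_one hpf.out.pos ha

/-- A power map is a homomorphism into `⟨t⟩`. -/
structure PowerHom (R : Type*) [Group R] (t : R) (q : ℕ) : Prop where
  hom : ∀ u v : R, (u * v) ^ q = u ^ q * v ^ q
  range : ∀ u : R, u ^ q ∈ zpowers t
  ne : ∃ z : R, z ^ q ≠ 1

theorem range_of_gens {S : Set R} (hS : closure S = ⊤) {t : R} {q : ℕ}
    (hom : ∀ u v : R, (u * v) ^ q = u ^ q * v ^ q) (h : ∀ a ∈ S, a ^ q ∈ zpowers t) (u : R) :
    u ^ q ∈ zpowers t := by
  have hu : u ∈ closure S := hS ▸ mem_top u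
  induction hu using closure_induction with
  | mem a ha => exact h a ha
  | one => rw [one_pow]; exact one_mem _
  | mul a b _ _ ha hb => rw [hom]; exact mul_mem ha hb
  | inv a _ ha => rw [inv_pow]; exact inv_mem ha

theorem mem_zpowers_of_rank (hrank : Cfsg.PRankLE p 2 R) {t : R} (ht : orderOf t = p)
    (htc : t ∈ center R) {x y d : R} (hy : y ^ p = 1) (hdp : d ^ p = 1) (hdc : d ∈ center R)
    (hd1 : d ≠ 1) (hxy : x⁻¹ * y * x = y * d) : zpowers t = zpowers d := by
  have htp : t ^ p = 1 := by rw [← ht, pow_orderOf_eq_one]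
  have ht1 : t ≠ 1 := fun e => by rw [e, orderOf_one] at ht; exact hpf.out.one_lt.ne ht
  refine zpowers_eq_of_order_p hdp htp ht1 ?_
  by_contra h
  have h1 := Cfsg.Agent.S3049.rank_two hrank hdp htp hy (mem_center_iff.1 hdc t).symm
    (mem_center_iff.1 hdc y).symm (mem_center_iff.1 htc y).symm hd1 h
  have hyc : y ∈ center R := (sup_le (zpowers_le.2 hdc) (zpowers_le.2 htc)) h1
  rw [mul_assoc, ← mem_center_iff.1 hyc x, inv_mul_cancel_left] at hxy
  exact hd1 (mul_eq_left.1 hxy.symm)

theorem type_two (hp : p ≠ 2) (hR : IsPGroup p R) (hrank : Cfsg.PRankLE p 2 R) {n : ℕ}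
    (hn : Nat.card R = p ^ n) (hn4 : 4 ≤ n) {t : R} (ht : orderOf t = p) (htc : t ∈ center R)
    {x y z : R} (hgen : closure ({x, y, z} : Set R) = ⊤) (hx : x ^ p = 1) (hy : y ^ p = 1)
    (hz : z ^ p ^ (n - 2) = 1) (hxz : x * z = z * x) (hyz : y * z = z * y)
    (hxy : x⁻¹ * y * x = y * z ^ p ^ (n - 3)) : PowerHom R t (p ^ (n - 3)) := by
  set d := z ^ p ^ (n - 3) with hd
  have hdp : d ^ p = 1 := by
    rw [hd, ← pow_mul, ← pow_succ, show n - 3 + 1 = n - 2 by omega, hz]
  have hzc : z ∈ center R := mem_center_of_gens hgen (by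
    rintro a (rfl | rfl | rfl)
    exacts [hxz, hyz, rfl])
  have hdc : d ∈ center R := pow_mem hzc _
  have hm1 : x⁻¹ * y * x ∈ zpowers y ⊔ zpowers z := by
    rw [hxy]
    exact mul_mem (mem_sup_left (mem_zpowers y)) (mem_sup_right (pow_mem (mem_zpowers z) _))
  have hm2 : x⁻¹ * z * x ∈ zpowers y ⊔ zpowers z := by
    rw [mul_assoc, ← hxz, inv_mul_cancel_left]
    exact mem_sup_right (mem_zpowers z)
  have hd1 : d ≠ 1 := pow_ne_one_of_count (by omega) hn hgen hx hy hyz hm1 hm2
  have htd := mem_zpowers_of_rank hrank ht htc hy hdp hdc hd1 hxy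
  haveI hDn : (zpowers d).Normal := ⟨fun w hw g => by
    rwa [mem_center_iff.1 (zpowers_le.2 hdc hw) g, mul_inv_cancel_right]⟩
  have hder : ∀ u v : R, ⁅u, v⁆ ∈ center R ∧ ⁅u, v⁆ ^ p = 1 := by
    have hxyD : ⁅x, y⁆ ∈ zpowers d := by
      have h1 : ⁅x, y⁆ = y * x * d⁻¹ * (y * x)⁻¹ := by
        rw [commutatorElement_def, show d = y⁻¹ * (x⁻¹ * y * x) by rw [hxy]; group]
        group
      rw [h1]
      exact hDn.conj_mem _ (inv_mem (mem_zpowers d)) (y * x)
    intro u v
    have h1 := derived_le_of_gens hgen (zpowers d) (by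
      rintro a (rfl | rfl | rfl) b (rfl | rfl | rfl) <;>
        first
          | (rw [commutatorElement_self]; exact one_mem _)
          | exact hxyD
          | (rw [← commutatorElement_inv]; exact inv_mem hxyD)
          | (rw [commutatorElement_eq_one_iff_mul_comm.2 (mem_center_iff.1 hzc _)]; exact one_mem _)
          | (rw [commutatorElement_eq_one_iff_mul_comm.2 (mem_center_iff.1 hzc _).symm]; exact one_mem _))
      u v
    obtain ⟨i, hi⟩ := mem_zpowers_iff.1 h1
    exact ⟨zpowers_le.2 hdc h1, by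
      rw [← hi, ← zpow_natCast, ← zpow_mul, mul_comm, zpow_mul, zpow_natCast, hdp, one_zpow]⟩
  have hom : ∀ k : ℕ, ∀ u v : R, (u * v) ^ p ^ k = u ^ p ^ k * v ^ p ^ k := by
    intro k
    induction k with
    | zero => simp
    | succ k ih =>
      intro u v
      rw [pow_succ', pow_mul, pow_mul, pow_mul, pow_mul_class_two hp hR hder, ih]
  obtain ⟨e, he⟩ : p ∣ p ^ (n - 3) := dvd_pow_self p (by omega)
  refine ⟨hom _, range_of_gens hgen (hom _) ?_, ⟨z, hd1⟩⟩
  rintro a (rfl | rfl | rfl)
  · rw [he, pow_mul, hx, one_pow]; exact one_mem _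
  · rw [he, pow_mul, hy, one_pow]; exact one_mem _
  · rw [htd]; exact mem_zpowers d

theorem type_three (hp : p ≠ 2) (hR : IsPGroup p R) (hrank : Cfsg.PRankLE p 2 R) {n : ℕ}
    (hn : Nat.card R = p ^ n) (hn4 : 4 ≤ n) (hcase : p ≠ 3 ∨ 5 ≤ n) {t : R} (ht : orderOf t = p)
    (htc : t ∈ center R) {s : ℕ} (hs : s = 1 ∨ ¬ IsSquare (s : ZMod p))
    {x y z : R} (hgen : closure ({x, y, z} : Set R) = ⊤) (hx : x ^ p = 1) (hy : y ^ p = 1)
    (hz : z ^ p ^ (n - 2) = 1) (hyz : y * z = z * y)
    (hxy : x⁻¹ * y * x = y * z ^ (s * p ^ (n - 3))) (hxz : x⁻¹ * z * x = y * z) :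
    PowerHom R t (p ^ (n - 3)) := by
  set q := p ^ (n - 3) with hqdef
  obtain ⟨e, he⟩ : p ∣ q := dvd_pow_self p (by omega)
  set w := z ^ q with hw
  have hwp : w ^ p = 1 := by
    rw [hw, ← pow_mul, hqdef, ← pow_succ, show n - 3 + 1 = n - 2 by omega, hz]
  have hm1 : x⁻¹ * y * x ∈ zpowers y ⊔ zpowers z := by
    rw [hxy]
    exact mul_mem (mem_sup_left (mem_zpowers y)) (mem_sup_right (pow_mem (mem_zpowers z) _))
  have hm2 : x⁻¹ * z * x ∈ zpowers y ⊔ zpowers z := by
    rw [hxz]
    exact mul_mem (mem_sup_left (mem_zpowers y)) (mem_sup_right (mem_zpowers z))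
  have hw1 : w ≠ 1 := pow_ne_one_of_count (by omega) hn hgen hx hy hyz hm1 hm2
  set d := z ^ (s * q) with hd
  have hdw : d = w ^ s := by rw [hd, hw, ← pow_mul, mul_comm]
  have hps : ¬ p ∣ s := by
    intro h
    rcases hs with rfl | hs
    · exact hpf.out.one_lt.ne' (Nat.dvd_one.1 h)
    · exact hs (by rw [(ZMod.natCast_eq_zero_iff s p).2 h] ; exact IsSquare.zero)
  have hdp : d ^ p = 1 := by rw [hdw, ← pow_mul, mul_comm, pow_mul, hwp, one_pow]
  have hd1 : d ≠ 1 := fun h => hps (by
    rw [hdw] at h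
    rw [← orderOf_eq_prime hwp hw1]; exact orderOf_dvd_of_pow_eq_one h)
  have hcyz : Commute y z := hyz
  have hdc : d ∈ center R := mem_center_of_gens hgen (by
    rintro a (rfl | rfl | rfl)
    · have h1 : a⁻¹ * d * a = d := by
        have h2 := (conj_pow (a := a⁻¹) (b := z) (i := s * q))
        rw [inv_inv, hxz] at h2
        rw [hd, ← h2, hcyz.mul_pow, he, show s * (p * e) = p * (s * e) by ring, pow_mul y, hy,
          one_pow, one_mul]
      calc a * d = a * (a⁻¹ * d * a) := by rw [h1]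
        _ = d * a := by group
    · exact (hcyz.pow_right _).eq
    · exact ((Commute.refl _).pow_right _).eq)
  have htd := mem_zpowers_of_rank hrank ht htc hy hdp hdc hd1 hxy
  have htw : zpowers t = zpowers w := by
    rw [htd, zpowers_eq_of_order_p hwp hdp hd1 (hdw ▸ pow_mem (mem_zpowers w) s)]
  -- the quotient by `⟨d⟩`
  set D := zpowers d with hD
  haveI hDn : D.Normal := ⟨fun w hw g => by
    rwa [mem_center_iff.1 (zpowers_le.2 hdc hw) g, mul_inv_cancel_right]⟩
  set π := QuotientGroup.mk' D with hπ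
  have hgenQ : closure (π '' ({x, y, z} : Set R)) = ⊤ := by
    rw [← MonoidHom.map_closure, hgen, map_top_of_surjective _ (QuotientGroup.mk'_surjective _)]
  have hπd : π d = 1 := (QuotientGroup.eq_one_iff _).2 (mem_zpowers d)
  have h1x := congrArg π hxy
  rw [map_mul, map_mul, map_mul, map_inv, hπd, mul_one] at h1x
  have h1z := congrArg π hxz
  rw [map_mul, map_mul, map_mul, map_inv] at h1z
  have hyQ : π y ∈ center (R ⧸ D) := mem_center_of_gens hgenQ (by
    rintro _ ⟨a, (rfl | rfl | rfl), rfl⟩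
    · calc π a * π y = π a * ((π a)⁻¹ * π y * π a) := by rw [h1x]
        _ = π y * π a := by group
    · rfl
    · rw [← map_mul, ← map_mul, hyz])
  haveI hYn : (zpowers (π y)).Normal := ⟨fun w hw g => by
    rwa [mem_center_iff.1 (zpowers_le.2 hyQ hw) g, mul_inv_cancel_right]⟩
  have hyp : π y ^ p = 1 := by rw [← map_pow, hy, map_one]
  have hderQ : ∀ a b : R ⧸ D, ⁅a, b⁆ ∈ zpowers (π y) := by
    refine derived_le_of_gens hgenQ _ ?_
    have hxzY : ⁅π x, π z⁆ ∈ zpowers (π y) := by
      have h2 : ⁅π x, π z⁆ = (π y)⁻¹ := by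
        rw [commutatorElement_def]
        calc π x * π z * (π x)⁻¹ * (π z)⁻¹
            = (π y)⁻¹ * (π x * (π y * π z) * (π x)⁻¹ * (π z)⁻¹) := by
              rw [← mul_assoc (π x) (π y), mem_center_iff.1 hyQ (π x)]; group
          _ = (π y)⁻¹ * (π x * ((π x)⁻¹ * π z * π x) * (π x)⁻¹ * (π z)⁻¹) := by rw [h1z]
          _ = _ := by group
      rw [h2]; exact inv_mem (mem_zpowers _)
    rintro _ ⟨a, (rfl | rfl | rfl), rfl⟩ _ ⟨b, (rfl | rfl | rfl), rfl⟩ <;>
      first
        | (rw [commutatorElement_self]; exact one_mem _)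
        | exact hxzY
        | (rw [← commutatorElement_inv]; exact inv_mem hxzY)
        | (rw [commutatorElement_eq_one_iff_mul_comm.2 (mem_center_iff.1 hyQ _)]; exact one_mem _)
        | (rw [commutatorElement_eq_one_iff_mul_comm.2 (mem_center_iff.1 hyQ _).symm]; exact one_mem _)
  have hderQ' : ∀ a b : R ⧸ D, ⁅a, b⁆ ∈ center (R ⧸ D) ∧ ⁅a, b⁆ ^ p = 1 := fun a b => by
    obtain ⟨i, hi⟩ := mem_zpowers_iff.1 (hderQ a b)
    exact ⟨zpowers_le.2 hyQ (hderQ a b), by
      rw [← hi, ← zpow_natCast, ← zpow_mul, mul_comm, zpow_mul, zpow_natCast, hyp, one_zpow]⟩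
  have hDp : ∀ c ∈ D, c ^ p = 1 := fun c hc => by
    obtain ⟨i, rfl⟩ := mem_zpowers_iff.1 hc
    rw [← zpow_natCast, ← zpow_mul, mul_comm, zpow_mul, zpow_natCast, hdp, one_zpow]
  have hlaw : ∀ u v : R, ∃ c ∈ D, (u * v) ^ p = u ^ p * v ^ p * c := fun u v =>
    ⟨(u ^ p * v ^ p)⁻¹ * (u * v) ^ p, by
      rw [← QuotientGroup.eq, QuotientGroup.mk_mul, QuotientGroup.mk_pow, QuotientGroup.mk_pow,
        QuotientGroup.mk_pow, QuotientGroup.mk_mul]
      exact (pow_mul_class_two hp (hR.to_quotient D) hderQ' _ _).symm, by group⟩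
  have hDc : D ≤ center R := zpowers_le.2 hdc
  have hom : ∀ u v : R, (u * v) ^ q = u ^ q * v ^ q := by
    rcases Nat.lt_or_ge n 5 with hn5 | hn5
    · -- class less than `p`
      obtain rfl : n = 4 := by omega
      have hp3 : p ≠ 3 := hcase.resolve_right (by omega)
      have hp5 : 5 ≤ p := by
        have := hpf.out.two_le
        rcases Nat.lt_or_ge p 5 with h | h
        · interval_cases p <;> first | omega | exact absurd hpf.out (by norm_num)
        · exact h
      set Y := (zpowers (π y)).comap π with hY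
      have hder : ∀ a b : R, ⁅a, b⁆ ∈ Y := fun a b => by
        rw [hY, mem_comap, map_commutatorElement]; exact hderQ _ _
      have hl2 : ∀ a ∈ Y, ∀ b : R, ⁅a, b⁆ ∈ D := fun a ha b => by
        refine (QuotientGroup.eq_one_iff _).1 ?_
        show π ⁅a, b⁆ = 1
        rw [map_commutatorElement]
        exact commutatorElement_eq_one_iff_mul_comm.2 (mem_center_iff.1 (zpowers_le.2 hyQ ha) _).symm
      have hcl : (⊤ : Subgroup R).lowerCentralSeries (p - 1) = ⊥ := by
        refine le_bot_iff.1 (((⊤ : Subgroup R).lowerCentralSeries_antitone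
          (show 3 ≤ p - 1 by omega)).trans ?_)
        rw [Subgroup.lowerCentralSeries_succ, Subgroup.lowerCentralSeries_succ,
          Subgroup.lowerCentralSeries_succ, Subgroup.lowerCentralSeries_zero]
        refine (commutator_mono (K₁ := center R) ((commutator_mono (K₁ := Y)
          (commutator_le.2 fun a _ b _ => hder a b) le_rfl).trans
          (commutator_le.2 fun a ha b _ => hDc (hl2 a ha b))) le_rfl).trans ?_
        exact commutator_le.2 fun a ha b _ => mem_bot.2 (commutatorElement_eq_one_iff_mul_comm.2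
          (mem_center_iff.1 ha b).symm)
      have law : FGSA.Regular.PowLaw p 1 R := fun a b =>
        (FGSA.Regular.isRegular_of_class_lt hR hcl).2 a b 1
      have hYp : ∀ c ∈ Y, c ^ p = 1 := fun c hc => by
        obtain ⟨i, hi⟩ := mem_zpowers_iff.1 (show π c ∈ zpowers (π y) from hc)
        rw [← map_zpow] at hi
        have hmem : (y ^ i)⁻¹ * c ∈ D := QuotientGroup.eq.1 hi
        have hcm : Commute (y ^ i) ((y ^ i)⁻¹ * c) := mem_center_iff.1 (hDc hmem) _
        rw [show c = y ^ i * ((y ^ i)⁻¹ * c) by group, hcm.mul_pow, hDp _ hmem, mul_one,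
          ← zpow_natCast, ← zpow_mul, mul_comm, zpow_mul, zpow_natCast, hy, one_zpow]
      intro u v
      rw [hqdef, show (4 : ℕ) - 3 = 1 from rfl]
      exact FGSA.Regular.pow_mul_of_commutator hR law (a := u) (b := v)
        (by rw [pow_one]; exact hYp _ (hder u v)) (subset_closure (Set.mem_insert _ _))
        (subset_closure (Set.mem_insert_of_mem _ rfl))
    · -- `p`-th powers are central
      have hzp : z ^ p ∈ center R := mem_center_of_gens hgen (by
        rintro a (rfl | rfl | rfl)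
        · have h1 : a⁻¹ * z ^ p * a = z ^ p := by
            have h2 := (conj_pow (a := a⁻¹) (b := z) (i := p))
            rw [inv_inv, hxz] at h2
            rw [← h2, hcyz.mul_pow, hy, one_mul]
          calc a * z ^ p = a * (a⁻¹ * z ^ p * a) := by rw [h1]
            _ = z ^ p * a := by group
        · exact (hcyz.pow_right _).eq
        · exact ((Commute.refl _).pow_right _).eq)
      have hcen : ∀ u : R, u ^ p ∈ center R := by
        intro u
        have hu : u ∈ closure ({x, y, z} : Set R) := hgen ▸ mem_top u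
        induction hu using closure_induction with
        | mem a ha =>
          rcases ha with rfl | rfl | rfl
          · rw [hx]; exact one_mem _
          · rw [hy]; exact one_mem _
          · exact hzp
        | one => rw [one_pow]; exact one_mem _
        | mul a b _ _ ha hb =>
          obtain ⟨c, hc, hab⟩ := hlaw a b
          rw [hab]; exact mul_mem (mul_mem ha hb) (hDc hc)
        | inv a _ ha => rw [inv_pow]; exact inv_mem ha
      have he' : p ∣ e := by
        have h1 : p * p ∣ q := by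
          rw [hqdef, ← pow_two]; exact pow_dvd_pow p (by omega)
        rw [he] at h1
        exact Nat.dvd_of_mul_dvd_mul_left hpf.out.pos h1
      obtain ⟨f, hf⟩ := he'
      intro u v
      obtain ⟨c, hc, huv⟩ := hlaw u v
      have hc1 : Commute (u ^ p * v ^ p) c := mem_center_iff.1 (hDc hc) _
      have hc2 : Commute (u ^ p) (v ^ p) := mem_center_iff.1 (hcen v) _
      rw [he, pow_mul, pow_mul, pow_mul, huv, hc1.mul_pow, hc2.mul_pow,
        show c ^ e = 1 by rw [hf, pow_mul, hDp c hc, one_pow], mul_one]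
  refine ⟨hom, range_of_gens hgen hom ?_, ⟨z, hw1⟩⟩
  rintro a (rfl | rfl | rfl)
  · rw [he, pow_mul, hx, one_pow]; exact one_mem _
  · rw [he, pow_mul, hy, one_pow]; exact one_mem _
  · rw [htw]; exact mem_zpowers w

theorem card_omega_le (hp : p ≠ 2) (hR : IsPGroup p R) (hm : Cfsg.IsMetacyclic R) :
    Nat.card ↥(Cfsg.omegaOne p (⊤ : Subgroup R)) ≤ p ^ 2 := by
  by_cases hc : IsCyclic R
  · letI : CommGroup R := IsCyclic.commGroup
    have hle : Cfsg.omegaOne p (⊤ : Subgroup R) ≤ (powMonoidHom p : R →* R).ker :=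
      (closure_le _).2 fun a ha => ha.2
    refine (card_le_of_le hle).trans ?_
    rw [IsCyclic.card_powMonoidHom_ker]
    exact (Nat.le_of_dvd hpf.out.pos (Nat.gcd_dvd_right _ _)).trans
      (Nat.le_self_pow (by norm_num) _)
  · exact (Cfsg.Agent.S0638.result hp hR hm hc).2.le

end Abstract

section Sylow

variable {G : Type*} [Group G] [Finite G] {p : ℕ} [hpf : Fact p.Prime] {P : Sylow p G}

theorem false_of_power (hperf : _root_.commutator G = ⊤) {t : G} (hiso : Cfsg.IsIsolated t)
    (ht : orderOf t = p) (htP : t ∈ (P : Subgroup G)) {q : ℕ}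
    (h : PowerHom (P : Subgroup G) ⟨t, htP⟩ q) : False := by
  letI : CommGroup ↥(zpowers t) :=
    { (inferInstance : Group ↥(zpowers t)) with mul_comm := mul_comm' }
  have hr : ∀ u : (P : Subgroup G), ((u : G)) ^ q ∈ zpowers t := fun u => by
    obtain ⟨i, hi⟩ := mem_zpowers_iff.1 (h.range u)
    exact mem_zpowers_iff.2 ⟨i, by simpa using congrArg Subtype.val hi⟩
  let φ : (P : Subgroup G) →* ↥(zpowers t) :=
    MonoidHom.mk' (fun u => ⟨((u : G)) ^ q, hr u⟩) fun u v =>
      Subtype.ext (by simpa using congrArg Subtype.val (h.hom u v))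
  obtain ⟨z, hz⟩ := h.ne
  refine hz (Subtype.ext ?_)
  have h1 := eq_one_of_perfect (P := P) hperf φ z.2 (fun k g hk => Subtype.ext ?_)
  · simpa [φ] using congrArg Subtype.val h1
  · show (g⁻¹ * (z : G) ^ k * g) ^ q = (((z : G)) ^ q) ^ k
    have h2 : g⁻¹ * ((z : G) ^ q) ^ k * g = (g⁻¹ * (z : G) ^ k * g) ^ q := by
      have := conj_pow (a := g⁻¹) (b := (z : G) ^ k) (i := q)
      rw [inv_inv] at this
      rw [this, ← pow_mul, ← pow_mul, mul_comm]
    rw [← h2]
    exact fixed_pow hiso ht htP (pow_mem (hr z) k) (by rw [h2]; exact pow_mem hk q)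

/-- A Sylow subgroup with an isolated element of a perfect group is not metacyclic. -/
theorem false_of_metacyclic (hp : p ≠ 2) (hperf : _root_.commutator G = ⊤) {t : G}
    (hiso : Cfsg.IsIsolated t) (ht : orderOf t = p) (htP : t ∈ (P : Subgroup G))
    (hm : Cfsg.IsMetacyclic (P : Subgroup G)) : False := by
  classical
  set P₀ := (P : Subgroup G) with hP₀
  set W := (Cfsg.omegaOne p (⊤ : Subgroup P₀)).map P₀.subtype with hW
  have hWc : Nat.card W ≤ p ^ 2 := by
    rw [hW, card_map_of_injective P₀.subtype_injective]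
    exact card_omega_le hp P.isPGroup' hm
  have htp : t ^ p = 1 := by rw [← ht, pow_orderOf_eq_one]
  have hno : ∀ m : G, ∀ H : Subgroup G, Ess P H → t ∈ H → m ∈ H → False := by
    intro m H hH htH _
    refine not_ess hp hiso ht hH (A := H) (U := Cfsg.omegaOne p H)
      (subset_closure ⟨htH, htp⟩) ((closure_le _).2 fun u hu => hu.1) le_rfl ?_ ?_ le_rfl ?_
      (fun a ha hap => subset_closure ⟨ha, hap⟩)
    · rw [relIndex_self]; exact hpf.out.one_le
    · refine (card_le_of_le ?_).trans hWc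
      refine (closure_le _).2 fun u hu => ⟨⟨u, hH.le hu.1⟩, subset_closure ⟨mem_top _, ?_⟩, rfl⟩
      exact Subtype.ext hu.2
    · intro n hn
      rw [mem_normalizer_iff_cj]
      refine eq_of_le_of_card_le' ?_ (card_cj _ _).ge
      rw [cj_le_iff']
      refine (closure_le _).2 fun u hu => ?_
      rw [SetLike.mem_coe, mem_cj, inv_inv]
      refine subset_closure ⟨(mem_normalizer_iff.1 hn u).1 hu.1, ?_⟩
      rw [conj_pow, hu.2, mul_one, mul_inv_cancel]
  set N := normalizer (P₀ : Set G) with hN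
  have hPN : P₀ ≤ N := le_normalizer
  haveI : (P₀.subgroupOf N).Normal := normal_subgroupOf_of_le_normalizer le_rfl
  have hidx : ¬ p ∣ (P₀.subgroupOf N).index := fun h =>
    P.not_dvd_index (h.trans (relIndex_dvd_index_of_le hPN))
  obtain ⟨Q₀, hQ⟩ := Subgroup.exists_right_complement'_of_coprime (N := P₀.subgroupOf N) (by
    rw [Nat.card_congr (subgroupOfEquivOfLe hPN).toEquiv]
    obtain ⟨k, hk⟩ := IsPGroup.iff_card.1 P.isPGroup'
    rw [hk]
    exact Nat.Coprime.pow_left k (hpf.out.coprime_iff_not_dvd.2 hidx))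
  set Q := Q₀.map N.subtype with hQdef
  have hQN : Q ≤ N := map_subtype_le _
  have hcop : (Nat.card Q).Coprime p := by
    rw [hQdef, card_map_of_injective N.subtype_injective, ← hQ.symm.index_eq_card]
    exact (hpf.out.coprime_iff_not_dvd.2 hidx).symm
  obtain ⟨-, -, hinf, -⟩ :=
    CfsgLib.FGSA.MetacyclicAct.main hp P.isPGroup' hm hQN hcop
  set K := ⁅P₀, Q⁆.subgroupOf P₀ ⊔ CfsgLib.FGSA.MaxClass.lcs ↥P₀ 1 with hK
  have hderK : ∀ u v : P₀, ⁅u, v⁆ ∈ K := fun u v =>
    mem_sup_right (by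
      show ⁅u, v⁆ ∈ (⊤ : Subgroup P₀).lowerCentralSeries 1
      rw [Subgroup.lowerCentralSeries_succ, Subgroup.lowerCentralSeries_zero]
      exact commutator_mem_commutator (mem_top u) (mem_top v))
  haveI hKn : K.Normal := ⟨fun k hk g => by
    rw [show g * k * g⁻¹ = ⁅g, k⁆ * k by simp [commutatorElement_def, mul_assoc]]
    exact mul_mem (hderK g k) hk⟩
  have hall : ∀ m : P₀, m ∈ K := by
    intro m
    set π := QuotientGroup.mk' K with hπ
    letI : CommGroup (P₀ ⧸ K) :=
      { (inferInstance : Group (P₀ ⧸ K)) with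
        mul_comm := fun a b => by
          obtain ⟨u, rfl⟩ := QuotientGroup.mk'_surjective K a
          obtain ⟨v, rfl⟩ := QuotientGroup.mk'_surjective K b
          rw [← commutatorElement_eq_one_iff_mul_comm, ← map_commutatorElement]
          exact (QuotientGroup.eq_one_iff _).2 (hderK u v) }
    refine (QuotientGroup.eq_one_iff _).1 (eq_one_of_perfect hperf π m.2 fun k g hk => ?_)
    obtain ⟨y, hy, hym⟩ := fus_normal hiso ht htP (pow_mem m.2 k) hk
      (hno ((m : G) ^ k))
    obtain ⟨⟨⟨a, ha⟩, ⟨b, hb⟩⟩, hab⟩ := hQ.2 ⟨y, hy⟩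
    have hb' : (b : G) ∈ Q := mem_map_of_mem _ hb
    set r : P₀ := ⟨(a : G), mem_subgroupOf.1 ha⟩
    have e1 : y = (a : G) * (b : G) := (congrArg Subtype.val hab).symm
    set w : P₀ := r⁻¹ * m ^ k * r with hw
    have hmem : (b : G)⁻¹ * (w : G) * (b : G) ∈ P₀ := by
      have := (mem_normalizer_iff.1 (inv_mem (hQN hb')) _).1 w.2
      rwa [inv_inv] at this
    have e2 : (⟨g⁻¹ * (m : G) ^ k * g, hk⟩ : P₀) = ⟨_, hmem⟩ := Subtype.ext (by
      show g⁻¹ * (m : G) ^ k * g = _
      rw [← hym, e1]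
      simp only [hw, r, Subgroup.coe_mul, Subgroup.coe_inv, SubmonoidClass.coe_pow]
      group)
    rw [e2]
    have h1 : π ⟨_, hmem⟩ = π w := by
      refine QuotientGroup.eq.2 (mem_sup_left ?_)
      rw [mem_subgroupOf]
      show ((b : G)⁻¹ * (w : G) * (b : G))⁻¹ * (w : G) ∈ ⁅P₀, Q⁆
      rw [show ((b : G)⁻¹ * (w : G) * (b : G))⁻¹ * (w : G) = ⁅(b : G)⁻¹, (w : G)⁻¹⁆ by
          rw [commutatorElement_def]; group,
        ← commutatorElement_inv]
      exact inv_mem (commutator_mem_commutator (inv_mem w.2) (inv_mem hb'))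
    rw [h1, hw, map_mul, map_mul, map_inv, mul_comm, mul_inv_cancel_left, map_pow]
  have htop : ⁅P₀, Q⁆.subgroupOf P₀ = ⊤ := by
    by_contra hne
    exact CfsgLib.MaxClassAvoid.sup_ne_top P.isPGroup' hne (top_le_iff.1 fun m _ => hall m)
  have htC : t ∈ centralizer (Q : Set G) := mem_centralizer_iff.2 fun b hb =>
    mem_centralizer_singleton_iff.1
      (normalizer_le_centralizer hiso P.isPGroup' htP (hQN hb))
  have ht0 : t ∈ (⊥ : Subgroup G) :=
    hinf ▸ ⟨subgroupOf_eq_top.1 htop htP, htP, htC⟩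
  rw [mem_bot.1 ht0, orderOf_one] at ht
  exact hpf.out.one_lt.ne ht

end Sylow

end CfsgLib.IsolRankTwo
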