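import Cfsg.Agent.LocalB.StrongAlperin
import Cfsg.Agent.LocalB.Isolated
import Cfsg.Agent.Invol.FocalTransfer
import Cfsg.Agent.CharP.CoprimeActions
import Cfsg.Agent.PLocal.Uniserial

/-!
Fusion in a Sylow subgroup containing an isolated element of order `p`, and a criterion that
excludes essential subgroups with small `Ω₁`.
-/

set_option autoImplicit false
set_option linter.unusedSectionVars false
set_option linter.style.haveILetI false

namespace CfsgLib.IsolRankTwo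

open Subgroup CfsgLib.Functor CfsgLib.StrongAlperin
open scoped CfsgLib.Functor commutatorElement

variable {G : Type*} [Group G]

/-- The elements normalising `A ≤ H` and centralising `H / A`. -/
def stab (H A : Subgroup G) : Subgroup G where
  carrier := {n | (n ∈ normalizer (A : Set G) ∧ n ∈ normalizer (H : Set G)) ∧
    ∀ h ∈ H, n * h * n⁻¹ * h⁻¹ ∈ A}
  one_mem' := ⟨⟨one_mem _, one_mem _⟩, fun h _ => by simp⟩
  mul_mem' := fun {n m} hn hm => ⟨⟨mul_mem hn.1.1 hm.1.1, mul_mem hn.1.2 hm.1.2⟩, fun h hh => by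
    have e : n * m * h * (n * m)⁻¹ * h⁻¹ = n * (m * h * m⁻¹ * h⁻¹) * n⁻¹ * (n * h * n⁻¹ * h⁻¹) := by
      group
    rw [e]
    exact mul_mem ((mem_normalizer_iff.1 hn.1.1 _).1 (hm.2 h hh)) (hn.2 h hh)⟩
  inv_mem' := fun {n} hn => ⟨⟨inv_mem hn.1.1, inv_mem hn.1.2⟩, fun h hh => by
    have e : n⁻¹ * h * n⁻¹⁻¹ * h⁻¹ = n⁻¹ * (n * h * n⁻¹ * h⁻¹)⁻¹ * n⁻¹⁻¹ := by group
    rw [e]
    exact (mem_normalizer_iff.1 (inv_mem hn.1.1) _).1 (inv_mem (hn.2 h hh))⟩

theorem normalizer_le_stab {H A : Subgroup G} {N : Subgroup G}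
    (hH : N ≤ normalizer (H : Set G)) (hA : N ≤ normalizer (A : Set G)) {k n : G} (hk : k ∈ N)
    (hn : n ∈ stab H A) : k * n * k⁻¹ ∈ stab H A := by
  refine ⟨⟨mul_mem (mul_mem (hA hk) hn.1.1) (inv_mem (hA hk)),
    mul_mem (mul_mem (hH hk) hn.1.2) (inv_mem (hH hk))⟩, fun h hh => ?_⟩
  have h1 : k⁻¹ * h * k ∈ H := by
    have := (mem_normalizer_iff.1 (inv_mem (hH hk)) h).1 hh
    rwa [inv_inv] at this
  have e : k * n * k⁻¹ * h * (k * n * k⁻¹)⁻¹ * h⁻¹ =
      k * (n * (k⁻¹ * h * k) * n⁻¹ * (k⁻¹ * h * k)⁻¹) * k⁻¹ := by group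
  rw [e]
  exact (mem_normalizer_iff.1 (hA hk) _).1 (hn.2 _ h1)

variable [Finite G] {p : ℕ} [hpf : Fact p.Prime]

/-- A `p`-group centralises its invariant sections of order at most `p`. -/
theorem comm_mem_of_relIndex_le {T H A : Subgroup G} (hT : IsPGroup p T) (hHT : H ≤ T)
    (hAH : A ≤ H) (hnA : T ≤ normalizer (A : Set G)) (hnH : T ≤ normalizer (H : Set G))
    (hidx : A.relIndex H ≤ p) {n : G} (hn : n ∈ T) {h : G} (hh : h ∈ H) :
    n * h * n⁻¹ * h⁻¹ ∈ A := by
  haveI : (A.subgroupOf T).Normal := normal_subgroupOf_of_le_normalizer hnA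
  haveI : (H.subgroupOf T).Normal := normal_subgroupOf_of_le_normalizer hnH
  set π := QuotientGroup.mk' (A.subgroupOf T) with hπ
  set H' := (H.subgroupOf T).map π with hH'
  have hQ : IsPGroup p (↥T ⧸ A.subgroupOf T) := hT.to_quotient _
  have hc : Nat.card H' ≤ p := by
    rw [hH', ← relIndex_ker, hπ, QuotientGroup.ker_mk', relIndex_subgroupOf hHT]
    exact hidx
  have hn' : (⊤ : Subgroup (↥T ⧸ A.subgroupOf T)) ≤ normalizer (H' : Set (↥T ⧸ A.subgroupOf T)) := by
    haveI : H'.Normal := Normal.map inferInstance _ (QuotientGroup.mk'_surjective _)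
    exact (normalizer_eq_top (H := H')).ge
  have hbot : ⁅H', (⊤ : Subgroup (↥T ⧸ A.subgroupOf T))⁆ = ⊥ := by
    rcases eq_or_ne H' ⊥ with h0 | h0
    · rw [h0, commutator_bot_left]
    · have h1 := CfsgLib.Uniserial.descend (hQ.to_subgroup ⊤) le_top le_top hn' h0
      have h2 : p * Nat.card ↥(⁅H', (⊤ : Subgroup (↥T ⧸ A.subgroupOf T))⁆) ≤ p * 1 := by
        rw [mul_one]; exact h1.trans hc
      exact eq_bot_of_card_le _ (Nat.le_of_mul_le_mul_left h2 hpf.out.pos)
  have h1 : ⁅π ⟨h, hHT hh⟩, π ⟨n, hn⟩⁆ = 1 := mem_bot.1 (hbot ▸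
    commutator_mem_commutator (mem_map_of_mem π (show (⟨h, hHT hh⟩ : ↥T) ∈ H.subgroupOf T from hh))
      (mem_top _))
  rw [← map_commutatorElement, hπ, QuotientGroup.mk'_apply, QuotientGroup.eq_one_iff,
    mem_subgroupOf] at h1
  have := inv_mem h1
  simpa [commutatorElement_def, mul_assoc] using this

/-- An element of order prime to `p` cannot translate by a fixed `p`-element. -/
theorem coprime_translate {n u c : G} (h : n * u * n⁻¹ = c * u) (hc : n * c = c * n)
    (hcp : ∃ j, orderOf c = p ^ j) (hn : (orderOf n).Coprime p) : c = 1 := by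
  have key : ∀ k : ℕ, n ^ k * u * (n ^ k)⁻¹ = c ^ k * u := by
    intro k
    induction k with
    | zero => simp
    | succ k ih =>
      calc n ^ (k + 1) * u * (n ^ (k + 1))⁻¹ = n * (n ^ k * u * (n ^ k)⁻¹) * n⁻¹ := by
            rw [pow_succ']; group
        _ = n * (c ^ k * u) * n⁻¹ := by rw [ih]
        _ = (n * c ^ k * n⁻¹) * (n * u * n⁻¹) := by group
        _ = _ := by
          rw [((show Commute n c from hc).pow_right k).eq, mul_inv_cancel_right, h, ← mul_assoc,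
            ← pow_succ]
  have h1 := key (orderOf n)
  rw [pow_orderOf_eq_one, one_mul, inv_one, mul_one, eq_comm, mul_eq_right] at h1
  obtain ⟨j, hj⟩ := hcp
  exact orderOf_eq_one_iff.1 (Nat.eq_one_of_dvd_coprimes (hn.pow_right j)
    (orderOf_dvd_of_pow_eq_one h1) (dvd_of_eq hj))

variable {P : Sylow p G} {t : G}

theorem normalizer_le_centralizer (hiso : Cfsg.IsIsolated t) {R : Subgroup G} (hR : IsPGroup p R)
    (htR : t ∈ R) : normalizer (R : Set G) ≤ centralizer ({t} : Set G) := fun g hg => by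
  have h1 : g * t * g⁻¹ ∈ R := (mem_normalizer_iff.mp hg t).mp htR
  have h2 := hiso g (CfsgLib.LocalB.isolated_central hiso hR htR _ h1).symm
  exact mem_centralizer_singleton_iff.mpr (mul_inv_eq_iff_eq_mul.mp h2)

/-- Essential subgroups through `t` whose relevant part has small `Ω₁` do not exist. -/
theorem not_ess (hp : p ≠ 2) (hiso : Cfsg.IsIsolated t) (ht : orderOf t = p)
    {H A U : Subgroup G} (h : Ess P H) (htU : t ∈ U) (hUA : U ≤ A) (hAH : A ≤ H)
    (hidx : A.relIndex H ≤ p) (hUc : Nat.card U ≤ p ^ 2)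
    (hnA : normalizer (H : Set G) ≤ normalizer (A : Set G))
    (hnU : normalizer (H : Set G) ≤ normalizer (U : Set G))
    (hΩ : ∀ a ∈ A, a ^ p = 1 → a ∈ U) : False := by
  classical
  set N := normalizer (H : Set G) with hN
  set Z := zpowers t with hZ
  set T := (P : Subgroup G) ⊓ N with hT
  have hTp : IsPGroup p T := P.isPGroup'.to_le inf_le_left
  have hHp : IsPGroup p H := hTp.to_le h.lt.le
  have hNt : N ≤ centralizer ({t} : Set G) :=
    normalizer_le_centralizer hiso hHp (hAH (hUA htU))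
  have hnZ : N ≤ normalizer (Z : Set G) := by
    refine hNt.trans ?_
    rw [hZ, ← centralizer_closure {t}, ← zpowers_eq_closure]
    exact centralizer_le_normalizer _
  have hZU : Z ≤ U := zpowers_le.2 htU
  have hZidx : Z.relIndex U ≤ p := by
    have e := relIndex_mul_relIndex (⊥ : Subgroup G) Z U bot_le hZU
    rw [relIndex_bot_left, relIndex_bot_left, hZ, Nat.card_zpowers, ht] at e
    refine Nat.le_of_mul_le_mul_left ?_ hpf.out.pos
    rw [← pow_two]
    exact e.trans_le hUc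
  set Y := N ⊓ stab H A ⊓ stab U Z with hY
  have hTY : T ≤ Y := fun n hn => by
    refine ⟨⟨hn.2, ⟨hnA hn.2, hn.2⟩, fun x hx => ?_⟩, ⟨hnZ hn.2, hnU hn.2⟩, fun x hx => ?_⟩
    · exact comm_mem_of_relIndex_le hTp h.lt.le hAH (inf_le_right.trans hnA) inf_le_right hidx hn hx
    · exact comm_mem_of_relIndex_le hTp ((hUA.trans hAH).trans h.lt.le) hZU
        (inf_le_right.trans hnZ) (inf_le_right.trans hnU) hZidx hn hx
  have hYN : N ≤ normalizer (Y : Set G) := by
    have key : ∀ k ∈ N, ∀ n ∈ Y, k * n * k⁻¹ ∈ Y := fun k hk n hn =>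
      ⟨⟨N.mul_mem (N.mul_mem hk hn.1.1) (N.inv_mem hk), normalizer_le_stab le_rfl hnA hk hn.1.2⟩,
        normalizer_le_stab hnU hnZ hk hn.2⟩
    intro k hk
    refine mem_normalizer_iff.2 fun n => ⟨key k hk n, fun hn => ?_⟩
    have := key k⁻¹ (N.inv_mem hk) _ hn
    simpa [mul_assoc] using this
  have hbig : Big p H Y := ⟨h.lt.le.trans hTY, inf_le_left.trans inf_le_left, hYN,
    (dvd_relIndex_of_lt h.lt hTp).trans (Dvd.intro _ (relIndex_mul_relIndex _ _ _ h.lt.le hTY))⟩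
  have hcore : closure {g | g ∈ Y ∧ (orderOf g).Coprime p} ≤ centralizer (H : Set G) := by
    rw [closure_le]
    rintro n ⟨hn, hcop⟩
    have hnt : n * t = t * n := mem_centralizer_singleton_iff.1 (hNt hn.1.1)
    have hfixU : ∀ u ∈ U, n * u * n⁻¹ = u := fun u hu => by
      obtain ⟨i, hi⟩ := mem_zpowers_iff.1 (hn.2.2 u hu)
      have h1 : n * u * n⁻¹ = t ^ i * u := by rw [hi]; group
      have h2 : t ^ i = 1 := coprime_translate h1 (((show Commute n t from hnt).zpow_right i).eq) (by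
        obtain ⟨j, -, hj⟩ := (Nat.dvd_prime_pow hpf.out (m := 1)).1 (by
          rw [pow_one, ← ht]; exact orderOf_dvd_of_mem_zpowers (mem_zpowers_iff.2 ⟨i, rfl⟩) : orderOf (t ^ i) ∣ p ^ 1)
        exact ⟨j, hj⟩) hcop
      rw [h1, h2, one_mul]
    have hAp : IsPGroup p A := hHp.to_le hAH
    have hfixA : ∀ a ∈ A, n * a * n⁻¹ = a := by
      set φ : MulAut A := A.normalizerMonoidHom ⟨n, hnA hn.1.1⟩ with hφ
      have h1 : φ = 1 := by
        refine PGroupRank.aut_eq_one_of_omega_one hp hAp φ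
          (hcop.coprime_dvd_left ((orderOf_map_dvd _ _).trans (orderOf_mk n _).dvd)) fun x hx => ?_
        exact Subtype.ext (hfixU _ (hΩ _ x.2 (congrArg Subtype.val hx)))
      intro a ha
      exact congrArg Subtype.val (show φ ⟨a, ha⟩ = (⟨a, ha⟩ : A) by rw [h1]; rfl)
    refine mem_centralizer_iff.2 fun x hx => ?_
    set c := n * x * n⁻¹ * x⁻¹ with hc
    have hcA : c ∈ A := hn.1.2.2 x hx
    have hc1 : c = 1 := by
      refine coprime_translate (u := x) (by rw [hc]; group) ?_ ?_ hcop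
      · exact mul_inv_eq_iff_eq_mul.1 (hfixA c hcA)
      · obtain ⟨j, hj⟩ := IsPGroup.iff_orderOf.1 hAp ⟨c, hcA⟩
        exact ⟨j, by rwa [orderOf_mk] at hj⟩
    rw [hc, mul_inv_eq_one, mul_inv_eq_iff_eq_mul] at hc1
    exact hc1.symm
  exact h.not_le ((normalizer_le_core_sup_gen h hbig).trans
    (sup_le (hcore.trans le_sup_left) le_rfl))

theorem commute_of_mem (hiso : Cfsg.IsIsolated t) (htP : t ∈ (P : Subgroup G)) {a : G}
    (ha : a ∈ (P : Subgroup G)) : Commute a t :=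
  CfsgLib.LocalB.isolated_central hiso P.isPGroup' htP a ha

/-- A conjugate inside `P` of a power of `t` is that power. -/
theorem fixed_pow (hiso : Cfsg.IsIsolated t) (ht : orderOf t = p) (htP : t ∈ (P : Subgroup G))
    {u g : G} (hu : u ∈ zpowers t) (hg : g⁻¹ * u * g ∈ (P : Subgroup G)) : g⁻¹ * u * g = u := by
  obtain ⟨i, rfl⟩ := mem_zpowers_iff.1 hu
  have := CfsgLib.LocalB.isolated_conj_pow hiso ⟨1, ht.trans (pow_one p).symm⟩ i g⁻¹ (by
    rw [inv_inv]; exact (commute_of_mem hiso htP hg).eq)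
  rwa [inv_inv] at this

/-- Fusion in `P` can be realised in the centraliser of `t`. -/
theorem fus_centralizer (hiso : Cfsg.IsIsolated t) (ht : orderOf t = p) (htP : t ∈ (P : Subgroup G))
    {a g : G} (ha : a ∈ (P : Subgroup G)) (hg : g * a * g⁻¹ ∈ (P : Subgroup G)) :
    ∃ h : G, h * t = t * h ∧ h * a * h⁻¹ = g * a * g⁻¹ := by
  have htC : t ∈ centralizer ({a} : Set G) :=
    mem_centralizer_singleton_iff.2 (commute_of_mem hiso htP ha).symm.eq
  have hgC : g⁻¹ * t * g⁻¹⁻¹ ∈ centralizer ({a} : Set G) := by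
    refine mem_centralizer_singleton_iff.2 ?_
    have h1 := ((commute_of_mem hiso htP hg).symm.map (MulAut.conj g⁻¹).toMonoidHom).eq
    simpa [mul_assoc] using h1
  obtain ⟨n, hn, hnx⟩ := CfsgLib.LocalB.isolated_conj_mem hiso ⟨1, ht.trans (pow_one p).symm⟩ htC hgC
  refine ⟨(n * g⁻¹)⁻¹, ?_, ?_⟩
  · exact ((show Commute (n * g⁻¹) t from mul_inv_eq_iff_eq_mul.1 hnx).inv_left).eq
  · have hna : n⁻¹ * a * n = a := by
      rw [mul_assoc, ← mem_centralizer_singleton_iff.1 hn, inv_mul_cancel_left]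
    calc (n * g⁻¹)⁻¹ * a * (n * g⁻¹)⁻¹⁻¹ = g * (n⁻¹ * a * n) * g⁻¹ := by group
      _ = g * a * g⁻¹ := by rw [hna]

/-- If no essential subgroup contains `t` and `m`, then `N(P)` controls the fusion of `m`. -/
theorem fus_normal (hiso : Cfsg.IsIsolated t) (ht : orderOf t = p) (htP : t ∈ (P : Subgroup G))
    {m g : G} (hm : m ∈ (P : Subgroup G)) (hg : g⁻¹ * m * g ∈ (P : Subgroup G))
    (hno : ∀ H : Subgroup G, Ess P H → t ∈ H → m ∈ H → False) :
    ∃ y ∈ normalizer ((P : Subgroup G) : Set G), y⁻¹ * m * y = g⁻¹ * m * g := by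
  obtain ⟨h, hht, hhm⟩ := fus_centralizer hiso ht htP hm (g := g⁻¹) (by rwa [inv_inv])
  rw [inv_inv] at hhm
  set A := zpowers t ⊔ zpowers m with hA
  have hAP : A ≤ (P : Subgroup G) := sup_le (zpowers_le.2 htP) (zpowers_le.2 hm)
  have hhA : h⁻¹⁻¹ ⋆ A ≤ (P : Subgroup G) := by
    rw [inv_inv, cj_le_iff']
    refine sup_le (zpowers_le.2 ?_) (zpowers_le.2 ?_)
    · rw [mem_cj, inv_inv, hht, mul_inv_cancel_right]; exact htP
    · rw [mem_cj, inv_inv, hhm]; exact hg
  obtain ⟨c, w, y, hc, hw, hy, e⟩ := strong_alperin P hAP hhA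
  have hw1 : w = 1 := by
    cases hw with
    | one => rfl
    | step A H x g hH hAH hx h =>
      exact (hno H hH (hAH (mem_sup_left (mem_zpowers t))) (hAH (mem_sup_right (mem_zpowers m)))).elim
  refine ⟨y, hy, ?_⟩
  have hcm : c⁻¹ * m * c = m := by
    rw [mul_assoc, mem_centralizer_iff.1 hc m (mem_sup_right (mem_zpowers m)), inv_mul_cancel_left]
  rw [← hhm, ← inv_inv h, e, hw1, mul_one]
  calc y⁻¹ * m * y = y⁻¹ * (c⁻¹ * m * c) * y := by rw [hcm]
    _ = _ := by group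

/-- Transfer out of a perfect group. -/
theorem eq_one_of_perfect (hperf : _root_.commutator G = ⊤) {A : Type*} [CommGroup A]
    (φ : (P : Subgroup G) →* A) {m : G} (hm : m ∈ (P : Subgroup G))
    (key : ∀ (k : ℕ) (g : G) (h : g⁻¹ * m ^ k * g ∈ (P : Subgroup G)),
      φ ⟨_, h⟩ = φ ⟨m, hm⟩ ^ k) : φ ⟨m, hm⟩ = 1 := by
  by_contra hne
  refine FocalTransfer.transfer_ne_one (p := p) φ ?_ hm ?_ hne key ?_
  · exact hpf.out.coprime_iff_not_dvd.2 P.not_dvd_index
  · obtain ⟨j, hj⟩ := IsPGroup.iff_orderOf.1 P.isPGroup' ⟨m, hm⟩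
    exact ⟨j, by rwa [orderOf_mk] at hj⟩
  · exact MonoidHom.mem_ker.1 (Abelianization.commutator_subset_ker _ (hperf.ge (mem_top m)))

end CfsgLib.IsolRankTwo
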