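import Cfsg.Agent.IsolRankTwo.MaxClass
import Cfsg.Agent.FGSA.AbelianIndexP

/-!
The Sylow subgroups of a perfect group of `p`-rank at most two, `p` odd, with an isolated element of
order `p`: extraspecial of exponent `p`, or maximal class of order `3 ^ (2 k + 1)`.
-/

set_option autoImplicit false
set_option linter.unusedSectionVars false
set_option linter.unusedVariables false
set_option linter.style.haveILetI false
set_option maxHeartbeats 1000000

namespace CfsgLib.IsolRankTwo

open Subgroup CfsgLib.Functor CfsgLib.StrongAlperin CfsgLib.FGSA CfsgLib.FGSA.MaxClass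
open scoped CfsgLib.Functor commutatorElement

universe u

theorem rankLE_subgroup {G : Type*} [Group G] {p k : ℕ} (h : Cfsg.PRankLE p k G) (H : Subgroup G) :
    Cfsg.PRankLE p k H := by
  intro A hA hAe
  rw [← card_map_of_injective (K := A) H.subtype_injective]
  refine h _ ⟨⟨fun u v => Subtype.ext ?_⟩⟩ ?_
  · obtain ⟨a, ha, hau⟩ := u.2
    obtain ⟨b, hb, hbv⟩ := v.2
    simp only [Subgroup.coe_mul, ← hau, ← hbv, ← map_mul]
    exact congrArg H.subtype (congrArg Subtype.val (hA.is_comm.comm ⟨a, ha⟩ ⟨b, hb⟩))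
  · rintro _ ⟨a, ha, rfl⟩
    rw [← map_pow, hAe a ha, map_one]

theorem twoStep_equiv {R : Type u} [Group R] [Finite R] (e : R ≃* R) {s : R} (hs : s ∈ twoStep R 1) :
    e s ∈ twoStep R 1 := by
  have hmap : ∀ i, (lcs R i).map e.toMonoidHom = lcs R i := fun i => by
    unfold lcs
    rw [Subgroup.map_lowerCentralSeries, Subgroup.map_top_of_surjective _ e.surjective]
  refine mem_twoStep.2 fun g hg => ?_
  rw [← hmap 1] at hg
  obtain ⟨g', hg', rfl⟩ := hg
  have := mem_map_of_mem e.toMonoidHom (mem_twoStep.1 hs g' hg')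
  rw [hmap, map_commutatorElement] at this
  exact this

theorem normalizer_omega {G : Type*} [Group G] [Finite G] {p : ℕ} {A : Subgroup G} {n : G}
    (hn : n ∈ normalizer (A : Set G)) : n ∈ normalizer ((Cfsg.omegaOne p A : Subgroup G) : Set G) := by
  rw [mem_normalizer_iff_cj]
  refine eq_of_le_of_card_le' ?_ (card_cj _ _).ge
  rw [cj_le_iff']
  refine (closure_le _).2 fun u hu => ?_
  rw [SetLike.mem_coe, mem_cj, inv_inv]
  refine subset_closure ⟨(mem_normalizer_iff.1 hn u).1 hu.1, ?_⟩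
  rw [conj_pow, hu.2, mul_one, mul_inv_cancel]

section EvenMaxClass

variable {G : Type u} [Group G] [Finite G] {P : Sylow 3 G}

attribute [local instance] fact_three

theorem false_of_maxclass_even (hperf : _root_.commutator G = ⊤) (hrank : Cfsg.PRankLE 3 2 G)
    {t : G} (hiso : Cfsg.IsIsolated t) (ht : orderOf t = 3) (htP : t ∈ (P : Subgroup G)) {k : ℕ}
    (hk : 2 ≤ k) (hn : Nat.card (P : Subgroup G) = 3 ^ (2 * k))
    (hmax : lcs ↥(P : Subgroup G) (2 * k - 2) ≠ ⊥) : False := by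
  classical
  set P₀ := (P : Subgroup G) with hP₀
  set t₀ : P₀ := ⟨t, htP⟩ with ht₀
  have hR : IsPGroup 3 P₀ := P.isPGroup'
  have ht₀o : orderOf t₀ = 3 := by rw [ht₀, orderOf_mk, ht]
  have htc : t₀ ∈ center P₀ := mem_center_iff.2 fun u => Subtype.ext (commute_of_mem hiso htP u.2).eq
  set M := twoStep P₀ 1 with hM
  set U := lcs P₀ (2 * k - 3) with hU
  have D : MCData P₀ t₀ k M U := mcData hR (rankLE_subgroup hrank P₀) hk hn hmax ht₀o htc
  set q := 3 ^ (k - 1) with hq
  haveI hMn : M.Normal := ⟨fun m hm g => by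
    rw [show g * m * g⁻¹ = ⁅g, m⁆ * m by rw [commutatorElement_def]; group]
    exact mul_mem (D.lcs_le (comm_mem_succ 0 (mem_top g) m)) hm⟩
  -- no essential subgroup contains `t` and an element of order at least nine
  have hno : ∀ w : G, w ^ 3 ≠ 1 → ∀ H : Subgroup G, Ess P H → t ∈ H → w ∈ H → False := by
    intro w hw H hH htH hwH
    have hHP : H ≤ P₀ := hH.le
    have hHp : IsPGroup 3 H := P.isPGroup'.to_le hHP
    have htp : t ^ 3 = 1 := by rw [← ht, pow_orderOf_eq_one]
    set UG := U.map P₀.subtype with hUG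
    have hUGc : Nat.card UG = 3 ^ 2 := by
      rw [hUG, card_map_of_injective P₀.subtype_injective, D.card_U]
    set H' := H.subgroupOf P₀ with hH'
    have hcH : Nat.card H' = Nat.card H := Nat.card_congr (subgroupOfEquivOfLe hHP).toEquiv
    by_cases h27 : Nat.card H ≤ 3 ^ 3
    · refine not_ess (by norm_num) hiso ht hH (A := H) (U := Cfsg.omegaOne 3 H)
        (subset_closure ⟨htH, htp⟩) ((closure_le _).2 fun u hu => hu.1) le_rfl
        (by rw [relIndex_self]; norm_num) ?_ le_rfl (fun n hn => normalizer_omega hn)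
        (fun a ha hap => subset_closure ⟨ha, hap⟩)
      have hle : Cfsg.omegaOne 3 H ≤ (Cfsg.omegaOne 3 (⊤ : Subgroup H)).map H.subtype :=
        (closure_le _).2 fun u hu => ⟨⟨u, hu.1⟩, subset_closure ⟨mem_top _, Subtype.ext hu.2⟩, rfl⟩
      refine (card_le_of_le hle).trans ?_
      rw [card_map_of_injective H.subtype_injective]
      exact card_omega_twentySeven hHp h27 (w := ⟨w, hwH⟩) fun e => hw (congrArg Subtype.val e)
    by_cases hHM : H' ≤ M
    · refine not_ess (by norm_num) hiso ht hH (A := H) (U := Cfsg.omegaOne 3 H)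
        (subset_closure ⟨htH, htp⟩) ((closure_le _).2 fun u hu => hu.1) le_rfl
        (by rw [relIndex_self]; norm_num) ?_ le_rfl (fun n hn => normalizer_omega hn)
        (fun a ha hap => subset_closure ⟨ha, hap⟩)
      refine (card_le_of_le ?_).trans hUGc.le
      exact (closure_le _).2 fun u hu =>
        ⟨⟨u, hHP hu.1⟩, D.omega _ (hHM hu.1) (Subtype.ext hu.2), rfl⟩
    set A := (H' ⊓ M).map P₀.subtype with hA
    have hcard : ∀ h : P₀, Nat.card ↥(H' ⊓ centralizer ({h} : Set P₀)) =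
        Nat.card ↥(H ⊓ centralizer ({(h : G)} : Set G)) := fun h => by
      rw [← card_map_of_injective (K := H' ⊓ centralizer ({h} : Set P₀)) P₀.subtype_injective]
      congr 1
      have e : (H' ⊓ centralizer ({h} : Set P₀)).map P₀.subtype = H ⊓ centralizer ({(h : G)} : Set G) := by
        refine le_antisymm ?_ fun x hx => ?_
        · rintro _ ⟨x, hx, rfl⟩
          exact ⟨mem_subgroupOf.1 hx.1, mem_centralizer_singleton_iff.2
            (congrArg Subtype.val (mem_centralizer_singleton_iff.1 hx.2))⟩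
        · exact ⟨⟨x, hHP hx.1⟩, ⟨mem_subgroupOf.2 hx.1, mem_centralizer_singleton_iff.2
            (Subtype.ext (mem_centralizer_singleton_iff.1 hx.2))⟩, rfl⟩
      rw [e]
    have hiff : ∀ a : G, ∀ ha : a ∈ H, (⟨a, hHP ha⟩ : P₀) ∈ M ↔
        9 < Nat.card ↥(H ⊓ centralizer ({a} : Set G)) := fun a ha => by
      have h1 := D.mem_iff hR htc ht₀o (H := H') (h := (⟨a, hHP ha⟩ : P₀))
        (mem_subgroupOf.2 htH) (by rw [hcH]; exact not_le.1 h27) hHM (mem_subgroupOf.2 ha)
      rw [hcard] at h1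
      exact h1
    have hAn : normalizer (H : Set G) ≤ normalizer (A : Set G) := by
      intro n hn
      rw [mem_normalizer_iff_cj]
      refine eq_of_le_of_card_le' ?_ (card_cj _ _).ge
      rintro _ ⟨_, ⟨⟨a, haP⟩, ⟨haH, haM⟩, rfl⟩, rfl⟩
      have haH' : a ∈ H := mem_subgroupOf.1 haH
      have hb : n * a * n⁻¹ ∈ H := (mem_normalizer_iff.1 hn a).1 haH'
      show n * a * n⁻¹ ∈ A
      refine ⟨⟨n * a * n⁻¹, hHP hb⟩, ⟨mem_subgroupOf.2 hb, (hiff _ hb).2 ?_⟩, rfl⟩
      refine lt_of_lt_of_le ((hiff a haH').1 haM) ?_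
      rw [← card_cj n (H ⊓ centralizer ({a} : Set G))]
      refine card_le_of_le ?_
      rintro _ ⟨x, ⟨hx1, hx2⟩, rfl⟩
      refine ⟨(mem_normalizer_iff.1 hn x).1 hx1, mem_centralizer_singleton_iff.2 ?_⟩
      exact ((show Commute x a from mem_centralizer_singleton_iff.1 hx2).map
        (MulAut.conj n).toMonoidHom).eq
    refine not_ess (by norm_num) hiso ht hH (A := A) (U := Cfsg.omegaOne 3 A)
      (subset_closure ⟨⟨t₀, ⟨mem_subgroupOf.2 htH, D.tM⟩, rfl⟩, htp⟩)
      ((closure_le _).2 fun u hu => hu.1) ?_ ?_ ?_ hAn (fun n hn => normalizer_omega (hAn hn))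
      (fun a ha hap => subset_closure ⟨ha, hap⟩)
    · rintro _ ⟨a, ⟨ha, -⟩, rfl⟩
      exact mem_subgroupOf.1 ha
    · have e : H = H'.map P₀.subtype := by rw [hH', map_subgroupOf_eq_of_le hHP]
      rw [e, hA, relIndex_map_map_of_injective _ _ P₀.subtype_injective, inf_relIndex_left,
        ← D.index_M]
      exact Nat.le_of_dvd (Nat.pos_of_ne_zero index_ne_zero_of_finite)
        (relIndex_dvd_index_of_normal M H')
    · refine (card_le_of_le ?_).trans hUGc.le
      refine (closure_le _).2 ?_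
      rintro _ ⟨⟨a, ⟨-, haM⟩, rfl⟩, hap⟩
      exact ⟨a, D.omega a haM (Subtype.ext hap), rfl⟩
  -- kernel of the power map on `M`
  have hker : ∀ w ∈ M, w ^ q = 1 → w ∈ lcs P₀ 1 := by
    intro w hw hwq
    by_contra hwl
    let K : Subgroup P₀ :=
      { carrier := {x | x ∈ M ∧ x ^ q = 1}
        one_mem' := ⟨one_mem _, one_pow q⟩
        mul_mem' := fun {u v} hu hv => ⟨mul_mem hu.1 hv.1, by
          rw [hq, D.hom u hu.1 v hv.1, ← hq, hu.2, hv.2, one_mul]⟩
        inv_mem' := fun {u} hu => ⟨inv_mem hu.1, by rw [inv_pow, hu.2, inv_one]⟩ }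
    have hlK : lcs P₀ 1 < K := lt_of_le_of_ne (fun x hx => ⟨D.lcs_le hx, D.ker x hx⟩)
      fun e => hwl (e.ge ⟨hw, hwq⟩)
    have hKM : K < M := by
      refine lt_of_le_of_ne (fun x hx => hx.1) fun e => ?_
      obtain ⟨m, hm, hm1⟩ := D.ne
      exact hm1 (e.ge hm).2
    have h1 := CfsgLib.Uniserial.mul_card_le (hR.to_subgroup (⊤ : Subgroup P₀)) le_top hlK
    have h2 := CfsgLib.Uniserial.mul_card_le (hR.to_subgroup (⊤ : Subgroup P₀)) le_top hKM
    have h3 := M.card_mul_index
    rw [D.index_M, hn] at h3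
    rw [card_lcs hR hn hmax le_rfl (by omega)] at h1
    have h4 : 3 ^ (2 * k) = 9 * 3 ^ (2 * k - 1 - 1) := by
      rw [show (9 : ℕ) = 3 ^ 2 by norm_num, ← pow_add]; congr 1; omega
    have h5 : 0 < 3 ^ (2 * k - 1 - 1) := pow_pos (by norm_num) _
    omega
  obtain ⟨s, -, hsM⟩ := SetLike.exists_of_lt
    (lt_top_iff_ne_top.2 (fun e : M = ⊤ => by have := D.index_M; rw [e, index_top] at this; norm_num at this))
  set L := zpowers s ⊔ lcs P₀ 1 with hL
  have hder : ∀ u v : P₀, ⁅u, v⁆ ∈ L := fun u v =>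
    mem_sup_right (comm_mem_succ 0 (mem_top u) v)
  haveI hLn : L.Normal := ⟨fun l hl g => by
    rw [show g * l * g⁻¹ = ⁅g, l⁆ * l by simp [commutatorElement_def, mul_assoc]]
    exact mul_mem (hder g l) hl⟩
  have hLM : ∀ w ∈ M, w ∈ L → w ∈ lcs P₀ 1 := by
    intro w hw hwL
    obtain ⟨u, hu, c, hc, rfl⟩ := mem_sup_of_normal_right.1 hwL
    refine mul_mem ?_ hc
    have huM : u ∈ M := by
      have h := M.mul_mem hw (inv_mem (D.lcs_le hc))
      rwa [mul_inv_cancel_right] at h
    have huZ : u ∈ zpowers t₀ := D.cent_M s hsM u huM (by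
      obtain ⟨i, rfl⟩ := mem_zpowers_iff.1 hu
      exact ((Commute.refl s).zpow_left i).eq)
    refine hker u huM ?_
    obtain ⟨i, rfl⟩ := mem_zpowers_iff.1 huZ
    obtain ⟨d, hd⟩ : 3 ∣ q := dvd_pow_self 3 (by omega)
    rw [← zpow_natCast, ← zpow_mul, mul_comm, zpow_mul, zpow_natCast, hd, pow_mul,
      show t₀ ^ 3 = 1 by rw [← ht₀o, pow_orderOf_eq_one], one_pow, one_zpow]
  obtain ⟨m, hmM, hmq⟩ := D.ne
  set π := QuotientGroup.mk' L with hπ
  letI : CommGroup (P₀ ⧸ L) :=
    { (inferInstance : Group (P₀ ⧸ L)) with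
      mul_comm := fun a b => by
        obtain ⟨u, rfl⟩ := QuotientGroup.mk'_surjective L a
        obtain ⟨v, rfl⟩ := QuotientGroup.mk'_surjective L b
        rw [← commutatorElement_eq_one_iff_mul_comm, ← map_commutatorElement]
        exact (QuotientGroup.eq_one_iff _).2 (hder u v) }
  refine hmq (D.ker m (hLM m hmM ((QuotientGroup.eq_one_iff m).1
    (eq_one_of_perfect hperf π m.2 fun j g hj => ?_))))
  set u : P₀ := m ^ j with hu
  show π ⟨g⁻¹ * (m : G) ^ j * g, hj⟩ = π m ^ j
  rw [← map_pow]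
  by_cases hu3 : u ^ 3 = 1
  · have h3q : (m ^ q) ^ 3 = 1 := by
      obtain ⟨i, hi⟩ := mem_zpowers_iff.1 (D.range m hmM)
      rw [← hi, ← zpow_natCast, ← zpow_mul, mul_comm, zpow_mul, zpow_natCast,
        show t₀ ^ 3 = 1 by rw [← ht₀o, pow_orderOf_eq_one], one_zpow]
    have hom : orderOf m = q * 3 := by
      rw [hq, ← pow_succ]
      exact orderOf_eq_prime_pow hmq (by rwa [pow_succ, pow_mul])
    have hqj : q ∣ j := by
      refine Nat.dvd_of_mul_dvd_mul_right (by norm_num : 0 < 3) ?_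
      rw [← hom]
      exact orderOf_dvd_of_pow_eq_one (by rw [pow_mul]; exact hu3)
    obtain ⟨d, hd⟩ := hqj
    have hut : u ∈ zpowers t₀ := by
      rw [hu, hd, pow_mul]; exact pow_mem (D.range m hmM) d
    obtain ⟨i, hi⟩ := mem_zpowers_iff.1 hut
    have hfix := fixed_pow hiso ht htP (u := (m : G) ^ j)
      (mem_zpowers_iff.2 ⟨i, by simpa [ht₀, hu] using congrArg Subtype.val hi⟩) hj
    exact congrArg π (Subtype.ext (by simpa [hu] using hfix))
  · obtain ⟨y, hy, hym⟩ := fus_normal hiso ht htP (pow_mem m.2 j) hj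
      (hno _ fun e => hu3 (Subtype.ext (by simpa [hu] using e)))
    set φ : P₀ ≃* P₀ := P₀.normalizerMonoidHom ⟨y⁻¹, inv_mem hy⟩ with hφ
    have hφu : φ u = ⟨g⁻¹ * (m : G) ^ j * g, hj⟩ := Subtype.ext (by
      show y⁻¹ * ((u : P₀) : G) * y⁻¹⁻¹ = _
      rw [inv_inv, hu, SubmonoidClass.coe_pow]; exact hym)
    rw [← hφu]
    have huM : u ∈ M := pow_mem hmM j
    have hφM : φ u ∈ M := twoStep_equiv φ huM
    have hfix : (φ u) ^ q = u ^ q := by
      obtain ⟨i, hi⟩ := mem_zpowers_iff.1 (D.range u huM)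
      rw [← map_pow]
      refine Subtype.ext ?_
      show y⁻¹ * ((u ^ q : P₀) : G) * y⁻¹⁻¹ = _
      rw [inv_inv]
      refine fixed_pow hiso ht htP (mem_zpowers_iff.2 ⟨i, by simpa [ht₀] using congrArg Subtype.val hi⟩) ?_
      have := (mem_normalizer_iff.1 (inv_mem hy) _).1 (u ^ q).2
      rwa [inv_inv] at this
    refine QuotientGroup.eq.2 (mem_sup_right (hker _ (mul_mem (inv_mem hφM) huM) ?_))
    rw [hq, D.hom _ (inv_mem hφM) _ huM, ← hq, inv_pow, hfix, inv_mul_cancel]

end EvenMaxClass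

/-- A nonabelian group of order `p ^ 3` and exponent `p` is extraspecial. -/
theorem extraspecial_cube {R : Type*} [Group R] [Finite R] {p : ℕ} [hpf : Fact p.Prime]
    (hR : IsPGroup p R) (hc : Nat.card R = p ^ 3) (hne : ¬ IsMulCommutative R) :
    Cfsg.IsExtraspecial p R := by
  haveI : Nontrivial R := Finite.one_lt_card_iff_nontrivial.1
    (hc ▸ Nat.one_lt_pow (by norm_num) hpf.out.one_lt)
  set Z := center R with hZ
  obtain ⟨z, hz⟩ := IsPGroup.iff_card.1 (hR.to_subgroup Z)
  have hz1 : 1 ≤ z := by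
    rcases z with _ | z
    · haveI := hR.center_nontrivial
      have := Finite.one_lt_card (α := Z)
      rw [hz, pow_zero] at this; omega
    · omega
  have hz2 : z < 2 := by
    by_contra h2
    have hcyc : IsCyclic (R ⧸ center R) := by
      have e := Z.card_mul_index
      obtain ⟨w, hw⟩ := hR.index Z
      rw [hz, hw, hc, ← pow_add] at e
      have := Nat.pow_right_injective hpf.out.two_le e
      rcases (show w = 0 ∨ w = 1 by omega) with rfl | rfl
      · haveI : Subsingleton (R ⧸ center R) :=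
          (Nat.card_eq_one_iff_unique.1 (by rw [← index_eq_card, hw, pow_zero])).1
        infer_instance
      · exact isCyclic_of_prime_card (p := p) (by rw [← index_eq_card, hw, pow_one])
    exact hne (MonoidHom.isMulCommutative_of_isCyclic_of_ker_le_center (QuotientGroup.mk' (center R))
      (by rw [QuotientGroup.ker_mk']))
  have hZp : Nat.card Z = p := by rw [hz, show z = 1 by omega, pow_one]
  have hder : _root_.commutator R = Z := by
    have hle : _root_.commutator R ≤ Z := by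
      rw [_root_.commutator_def, commutator_le]
      intro u _ v _
      have hl : (⊤ : Subgroup R).lowerCentralSeries 2 = ⊥ :=
        RankTwoOdd.lcs_eq_bot hR hc (by omega) (by omega)
      exact mem_center_iff.2 fun g =>
        (commutatorElement_eq_one_iff_mul_comm.1 (mem_bot.1 (hl ▸ (show ⁅⁅u, v⁆, g⁆ ∈ lcs R 2 from
          comm_mem_succ 1 (comm_mem_succ 0 (mem_top u) v) g)))).symm
    refine Subgroup.eq_of_le_of_card_ge hle ?_
    rw [hZp]
    obtain ⟨w, hw⟩ := IsPGroup.iff_card.1 (hR.to_subgroup (_root_.commutator R))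
    rcases w with _ | w
    · exfalso
      rw [pow_zero] at hw
      have hbot := Subgroup.eq_bot_of_card_eq _ hw
      exact hne ⟨⟨fun a b => commutatorElement_eq_one_iff_mul_comm.1 (mem_bot.1 (hbot ▸
        commutator_mem_commutator (mem_top a) (mem_top b)))⟩⟩
    · rw [hw]; exact Nat.le_self_pow (Nat.succ_ne_zero w) p
  have hZF : Z ≤ frattini R :=
    hder ▸ (CfsgLib.PGroupBasic.commutator_pow_le_frattini hR).1
  refine ⟨⟨hR, ?_, hder⟩, hZp⟩
  refine (Subgroup.eq_of_le_of_card_ge hZF ?_).symm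
  obtain ⟨f, hf⟩ := IsPGroup.iff_card.1 (hR.to_subgroup (frattini R))
  have hFtop : frattini R ≠ ⊤ := fun e => bot_ne_top (frattini_nongenerating
    (by rw [e, sup_top_eq] : (⊥ : Subgroup R) ⊔ frattini R = ⊤))
  have hf2 : f ≤ 1 := by
    by_contra h
    obtain ⟨x, -, hx⟩ := SetLike.exists_of_lt (lt_top_iff_ne_top.2 hFtop)
    have hgt : zpowers x ⊔ frattini R = ⊤ := by
      have hlt : frattini R < zpowers x ⊔ frattini R :=
        lt_of_le_of_ne le_sup_right fun e => hx (e.ge (mem_sup_left (mem_zpowers x)))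
      have h1 := CfsgLib.Uniserial.mul_card_le (hR.to_subgroup (⊤ : Subgroup R)) le_top hlt
      refine Subgroup.eq_top_of_card_eq _ (le_antisymm (card_le_card_group _) ?_)
      rw [hc]
      calc p ^ 3 ≤ p ^ (f + 1) := Nat.pow_le_pow_right hpf.out.pos (by omega)
        _ = p * Nat.card ↥(frattini R) := by rw [hf, pow_succ']
        _ ≤ _ := h1
    have := frattini_nongenerating hgt
    exact hne ⟨⟨fun a b => by
      obtain ⟨i, rfl⟩ := mem_zpowers_iff.1 (this.ge (mem_top a))
      obtain ⟨j, rfl⟩ := mem_zpowers_iff.1 (this.ge (mem_top b))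
      rw [← zpow_add, ← zpow_add, add_comm]⟩⟩
  rw [hf, hZp]
  exact (Nat.pow_le_pow_right hpf.out.pos hf2).trans (pow_one p).le

theorem metacyclic_of_small {R : Type*} [Group R] [Finite R] {p : ℕ} [hpf : Fact p.Prime]
    (hR : IsPGroup p R) {w : R} (hw : Nat.card R ≤ p * orderOf w) : Cfsg.IsMetacyclic R := by
  obtain ⟨i, hi⟩ := hR.index (zpowers w)
  have e := (zpowers w).card_mul_index
  rw [Nat.card_zpowers, hi] at e
  have hi1 : i ≤ 1 := by
    rw [← Nat.pow_le_pow_iff_right hpf.out.one_lt, pow_one]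
    refine Nat.le_of_mul_le_mul_left ?_ (orderOf_pos w)
    rw [e, mul_comm]; exact hw
  rcases (show i = 0 ∨ i = 1 by omega) with rfl | rfl
  · have hT : zpowers w = ⊤ := index_eq_one.1 (by rw [hi, pow_zero])
    haveI : (zpowers w).Normal := by rw [hT]; infer_instance
    refine ⟨zpowers w, inferInstance, inferInstance, ?_⟩
    haveI : Subsingleton (R ⧸ zpowers w) :=
      (Nat.card_eq_one_iff_unique.1 (by rw [← index_eq_card, hi, pow_zero])).1
    infer_instance
  · rw [pow_one] at hi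
    haveI := AbelianIndexP.normal_of_index_prime hR hi
    exact ⟨zpowers w, inferInstance, inferInstance,
      isCyclic_of_prime_card (p := p) (by rw [← index_eq_card, hi])⟩

/-- The Sylow subgroups of a perfect group of `p`-rank two with an isolated element of order `p`. -/
theorem sylow_structure {G : Type u} [Group G] [Finite G] {p : ℕ} [hpf : Fact p.Prime] (hp : p ≠ 2)
    (hperf : _root_.commutator G = ⊤) (hrank : Cfsg.PRankLE p 2 G) (P : Sylow p G) {t : G}
    (hiso : Cfsg.IsIsolated t) (ht : orderOf t = p) (htP : t ∈ (P : Subgroup G)) :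
    (Cfsg.IsExtraspecial p ↥(P : Subgroup G) ∧ Nat.card (P : Subgroup G) = p ^ 3 ∧
      ∀ y ∈ (P : Subgroup G), y ^ p = 1) ∨
    (p = 3 ∧ ∃ k : ℕ, 2 ≤ k ∧ Nat.card (P : Subgroup G) = 3 ^ (2 * k + 1) ∧
      ∃ _ : Group.IsNilpotent ↥(P : Subgroup G),
        Group.nilpotencyClass ↥(P : Subgroup G) = 2 * k) := by
  classical
  set P₀ := (P : Subgroup G) with hP₀
  set t₀ : P₀ := ⟨t, htP⟩ with ht₀
  have hR : IsPGroup p P₀ := P.isPGroup'
  have hrk := rankLE_subgroup hrank P₀
  have hto : orderOf t₀ = p := by rw [ht₀, orderOf_mk, ht]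
  have htc : t₀ ∈ center P₀ :=
    mem_center_iff.2 fun u => Subtype.ext (commute_of_mem hiso htP u.2).eq
  obtain ⟨n, hn⟩ := IsPGroup.iff_card.1 hR
  have hmeta : ¬ Cfsg.IsMetacyclic P₀ := false_of_metacyclic hp hperf hiso ht htP
  by_cases hn3 : n ≤ 3
  · left
    rcases (show n ≤ 2 ∨ n = 3 by omega) with hn2 | rfl
    · refine absurd (metacyclic_of_small hR (w := t₀) ?_) hmeta
      rw [hn, hto, ← pow_two]
      exact Nat.pow_le_pow_right hpf.out.pos hn2
    have hexp : ∀ u : P₀, u ^ p = 1 := by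
      intro u
      by_contra hu
      refine hmeta (metacyclic_of_small hR (w := u) ?_)
      obtain ⟨i, hi⟩ := IsPGroup.iff_orderOf.1 hR u
      rw [hn, hi, ← pow_succ']
      refine Nat.pow_le_pow_right hpf.out.pos ?_
      by_contra h
      exact hu (orderOf_dvd_iff_pow_eq_one.1 (by
        rw [hi]; exact (pow_dvd_pow p (by omega : i ≤ 1)).trans (pow_one p).dvd))
    have hne : ¬ IsMulCommutative P₀ := by
      intro hcomm
      have := hrk ⊤ ⟨⟨fun u v => Subtype.ext (hcomm.is_comm.comm _ _)⟩⟩ (fun u _ => hexp u)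
      rw [card_top, hn, Nat.pow_le_pow_iff_right hpf.out.one_lt] at this
      omega
    exact ⟨extraspecial_cube hR hn hne, hn, fun y hy => congrArg Subtype.val (hexp ⟨y, hy⟩)⟩
  right
  have hfp : ∀ {q : ℕ}, PowerHom P₀ t₀ q → False := fun h => false_of_power hperf hiso ht htP h
  have hmc : p = 3 ∧ (⊤ : Subgroup P₀).lowerCentralSeries (n - 2) ≠ ⊥ := by
    rcases Blackburn.main hp n hn hrk with hm | ⟨-, x, y, z, hgen, hx, hy, hz, hxz, hyz, hxy⟩ |
      ⟨hn4, s, x, y, z, hs, hgen, hx, hy, hz, hyz, hxy, hxz⟩ | ⟨hp3, -, hmax⟩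
    · exact absurd hm hmeta
    · exact (hfp (type_two hp hR hrk hn (by omega) hto htc hgen hx hy hz hxz hyz hxy)).elim
    · by_cases hcase : p ≠ 3 ∨ 5 ≤ n
      · exact (hfp (type_three hp hR hrk hn hn4 hcase hto htc hs hgen hx hy hz hyz hxy hxz)).elim
      push Not at hcase
      obtain ⟨rfl, hn5⟩ := hcase
      obtain rfl : n = 4 := by omega
      refine ⟨rfl, fun hbot => ?_⟩
      have hy1 : y ∈ lcs P₀ 1 := by
        have h1 : ⁅x⁻¹, z⁆ = y := by
          rw [commutatorElement_def, inv_inv, hxz, mul_inv_cancel_right]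
        exact h1 ▸ comm_mem_succ 0 (mem_top _) _
      have hyc : y * x = x * y :=
        commutatorElement_eq_one_iff_mul_comm.1 (mem_bot.1 (hbot ▸ comm_mem_succ 1 hy1 x))
      rw [mul_assoc, hyc, inv_mul_cancel_left] at hxy
      have hd : z ^ (s * 3 ^ (4 - 3)) = 1 := mul_eq_left.1 hxy.symm
      have hm1 : x⁻¹ * y * x ∈ zpowers y ⊔ zpowers z := by
        rw [mul_assoc, hyc, inv_mul_cancel_left]; exact mem_sup_left (mem_zpowers y)
      have hm2 : x⁻¹ * z * x ∈ zpowers y ⊔ zpowers z := by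
        rw [hxz]; exact mul_mem (mem_sup_left (mem_zpowers y)) (mem_sup_right (mem_zpowers z))
      have hw1 : z ^ 3 ^ (4 - 3) ≠ 1 := pow_ne_one_of_count (by norm_num) hn hgen hx hy hyz hm1 hm2
      have hwp : (z ^ 3 ^ (4 - 3)) ^ 3 = 1 := by rw [← pow_mul]; exact hz
      have h3s : 3 ∣ s := by
        rw [← orderOf_eq_prime hwp hw1]
        exact orderOf_dvd_of_pow_eq_one (by rw [← pow_mul, mul_comm]; exact hd)
      rcases hs with rfl | hs
      · norm_num at h3s
      · exact hs (by rw [(ZMod.natCast_eq_zero_iff s 3).2 h3s]; exact IsSquare.zero)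
    · exact ⟨hp3, hmax⟩
  obtain ⟨rfl, hmax⟩ := hmc
  refine ⟨rfl, ?_⟩
  rcases Nat.even_or_odd n with ⟨k, hk⟩ | ⟨k, hk⟩
  · have hk' : n = 2 * k := by omega
    subst hk'
    exact (false_of_maxclass_even hperf hrank hiso ht htP (by omega) hn hmax).elim
  · refine ⟨k, by omega, by rw [hn, hk], hR.isNilpotent, ?_⟩
    haveI := hR.isNilpotent
    have h1 : Group.nilpotencyClass P₀ ≤ n - 1 :=
      Subgroup.lowerCentralSeries_eq_bot_iff_nilpotencyClass_le.1
        (lcs_last hR hn (by omega) hmax le_rfl)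
    have h2 : ¬ Group.nilpotencyClass P₀ ≤ n - 2 := fun h =>
      hmax (Subgroup.lowerCentralSeries_eq_bot_iff_nilpotencyClass_le.2 h)
    omega

end CfsgLib.IsolRankTwo
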