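import Cfsg.Agent.IsolRankTwo.Families

/-!
Three-groups of maximal class of even exponent and rank two.
-/

set_option autoImplicit false
set_option linter.unusedSectionVars false
set_option linter.unusedVariables false
set_option linter.style.haveILetI false
set_option maxHeartbeats 1000000

namespace CfsgLib.IsolRankTwo

open Subgroup CfsgLib.FGSA CfsgLib.FGSA.MaxClass CfsgLib.FGSA.MaxClassPow CfsgLib.MaxClassAvoid
open scoped commutatorElement

universe u

section Three

variable {R : Type u} [Group R] [Finite R]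

local instance fact_three : Fact (Nat.Prime 3) := ⟨Nat.prime_three⟩

theorem twoStep_two (hR : IsPGroup 3 R) {n : ℕ} (hn : Nat.card R = 3 ^ n) (hn5 : 5 ≤ n)
    (hmax : lcs R (n - 2) ≠ ⊥) : twoStep R 2 = twoStep R 1 := by
  have h2 : 2 ≤ n := by omega
  suffices hle : twoStep R 1 ≤ twoStep R 2 by
    refine (Subgroup.eq_of_le_of_card_ge hle ?_).symm
    have h1 := index_twoStep_le hR hn h2 hmax (j := 1) le_rfl (by omega)
    have h4 := twoStep_ne_top hR hn h2 hmax (j := 2) (by omega)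
    obtain ⟨k, hk⟩ := hR.index (twoStep R 2)
    have h5 : 3 ≤ (twoStep R 2).index := by
      rw [hk]
      exact Nat.le_self_pow (fun e => h4 (index_eq_one.1 (by rw [hk, e, pow_zero]))) 3
    refine Nat.le_of_mul_le_mul_right ?_ (by norm_num : 0 < 3)
    calc Nat.card ↥(twoStep R 2) * 3
        ≤ Nat.card ↥(twoStep R 2) * (twoStep R 2).index := Nat.mul_le_mul_left _ h5
      _ = Nat.card ↥(twoStep R 1) * (twoStep R 1).index := by rw [card_mul_index, card_mul_index]
      _ ≤ _ := Nat.mul_le_mul_left _ h1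
  intro a ha
  obtain ⟨b, -, hb⟩ := SetLike.exists_of_lt
    (lt_top_iff_ne_top.2 (twoStep_ne_top hR hn h2 hmax (j := 1) (by omega)))
  obtain ⟨g, hg, hg2⟩ := SetLike.not_le_iff_exists.1 (not_le_succ hR hn h2 hmax (i := 1) (by omega))
  set π := QuotientGroup.mk' (lcs R 4) with hπ
  have hcen : ∀ w ∈ lcs R 3, ∀ y : R, Commute (π w) (π y) := fun w hw y =>
    mk_comm.1 (comm_mem_succ 3 hw y)
  have hgg : ∀ w ∈ lcs R 1, Commute (π w) (π g) := by
    have hle : lcs R 1 ≤ (centralizer ({π g} : Set (R ⧸ lcs R 4))).comap π := by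
      refine eq_of_succ_lt hR hn h2 hmax (i := 1) le_rfl (by omega) ?_ ?_ hg hg2
      · intro v hv
        refine mem_centralizer_singleton_iff.2 (mk_comm.1 ?_).eq
        exact commutator_lcs (G := R) 1 2 (commutator_mem_commutator hv hg)
      · exact mem_centralizer_singleton_iff.2 rfl
    exact fun w hw => mem_centralizer_singleton_iff.1 (hle hw)
  set c := ⁅a, g⁆ with hc
  set h := ⁅b, g⁆ with hh
  have hc3 : c ∈ lcs R 3 := by
    rw [hc, ← commutatorElement_inv]; exact inv_mem (mem_twoStep.1 ha g hg)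
  have hh2 : h ∈ lcs R 2 := by
    rw [hh, ← commutatorElement_inv]; exact inv_mem (comm_mem_succ 1 hg b)
  have hh3 : h ∉ lcs R 3 := fun h' => hb (mem_twoStep_of_comm hR hn h2 hmax (j := 1) le_rfl
    (by omega) hg hg2 (by rw [← commutatorElement_inv, ← hh]; exact inv_mem h'))
  set e := ⁅a, h⁆ with he
  have he3 : e ∈ lcs R 3 := by
    rw [he, ← commutatorElement_inv]; exact inv_mem (comm_mem_succ 2 hh2 a)
  have hw : ⁅a⁻¹, b⁻¹⁆ ∈ lcs R 1 := comm_mem_succ 0 (mem_top _) _
  refine mem_twoStep_of_comm hR hn h2 hmax (j := 2) (by omega) (by omega) hh2 hh3 ?_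
  rw [← commutatorElement_inv, ← he]
  refine inv_mem ((QuotientGroup.eq_one_iff e).1 ?_)
  show π e = 1
  -- compare conjugation by `a b` and by `b a`
  set A := π a
  set B := π b
  set X := π g
  set C := π c
  set H := π h
  set E := π e
  have e1 : A * X * A⁻¹ = C * X := by
    show π a * π g * (π a)⁻¹ = π c * π g
    rw [← map_inv, ← map_mul, ← map_mul, ← map_mul, hc]; congr 1; rw [commutatorElement_def]; group
  have e2 : B * X * B⁻¹ = H * X := by
    show π b * π g * (π b)⁻¹ = π h * π g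
    rw [← map_inv, ← map_mul, ← map_mul, ← map_mul, hh]; congr 1; rw [commutatorElement_def]; group
  have e3 : A * H * A⁻¹ = E * H := by
    show π a * π h * (π a)⁻¹ = π e * π h
    rw [← map_inv, ← map_mul, ← map_mul, ← map_mul, he]; congr 1; rw [commutatorElement_def]; group
  have e4 : π ⁅a⁻¹, b⁻¹⁆ = A⁻¹ * B⁻¹ * A * B := by
    rw [map_commutatorElement, commutatorElement_def, map_inv, map_inv, inv_inv, inv_inv]
  have e5 : (A * B) * X * (A * B)⁻¹ = (B * A) * X * (B * A)⁻¹ := by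
    have hW := (hgg _ hw).eq
    rw [e4] at hW
    calc (A * B) * X * (A * B)⁻¹
        = (B * A) * ((A⁻¹ * B⁻¹ * A * B) * X) * (A * B)⁻¹ := by group
      _ = (B * A) * (X * (A⁻¹ * B⁻¹ * A * B)) * (A * B)⁻¹ := by rw [hW]
      _ = _ := by group
  have e6 : (A * B) * X * (A * B)⁻¹ = E * H * (C * X) := by
    calc (A * B) * X * (A * B)⁻¹ = A * (B * X * B⁻¹) * A⁻¹ := by group
      _ = (A * H * A⁻¹) * (A * X * A⁻¹) := by rw [e2]; group
      _ = _ := by rw [e3, e1]
  have e7 : (B * A) * X * (B * A)⁻¹ = C * (H * X) := by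
    calc (B * A) * X * (B * A)⁻¹ = B * (A * X * A⁻¹) * B⁻¹ := by group
      _ = B * C * X * B⁻¹ := by rw [e1, ← mul_assoc]
      _ = C * (B * X * B⁻¹) := by
        rw [show B * C = C * B from (hcen c hc3 b).eq.symm]; group
      _ = _ := by rw [e2]
  rw [e6, e7, mul_assoc E, ← mul_assoc H, ← mul_assoc C, ← (hcen c hc3 h).eq] at e5
  exact mul_eq_right.1 e5

theorem twoStep_eq (hR : IsPGroup 3 R) {n : ℕ} (hn : Nat.card R = 3 ^ n) (hmax : lcs R (n - 2) ≠ ⊥) :
    ∀ j, 1 ≤ j → j + 3 ≤ n → twoStep R j = twoStep R 1 := by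
  intro j
  induction j using Nat.strong_induction_on with
  | _ j ih =>
    intro hj hjn
    rcases (show j = 1 ∨ j = 2 ∨ 3 ≤ j by omega) with rfl | rfl | h3
    · rfl
    · exact twoStep_two hR hn (by omega) hmax
    · have := twoStep_shift hR hn hmax le_rfl (j := j - 2) (by omega) (by omega)
      rw [show j - 2 + 3 - 1 = j by omega] at this
      rw [this]; exact ih _ (by omega) (by omega) (by omega)

/-- Generators of order three in a group of class two give exponent three. -/
theorem card_omega_twentySeven (hR : IsPGroup 3 R) (hc : Nat.card R ≤ 3 ^ 3) {w : R} (hw : w ^ 3 ≠ 1) :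
    Nat.card ↥(Cfsg.omegaOne 3 (⊤ : Subgroup R)) ≤ 3 ^ 2 := by
  obtain ⟨a, ha⟩ := IsPGroup.iff_card.1 hR
  have ha3 : a ≤ 3 := (Nat.pow_le_pow_iff_right (by norm_num)).1 (ha ▸ hc)
  set Ω := Cfsg.omegaOne 3 (⊤ : Subgroup R) with hΩ
  have hne : Ω ≠ ⊤ := by
    intro htop
    have hl : (⊤ : Subgroup R).lowerCentralSeries 2 = ⊥ :=
      RankTwoOdd.lcs_eq_bot hR ha (by omega) (by omega)
    have hcen : ∀ u v : R, ⁅u, v⁆ ∈ center R := fun u v => mem_center_iff.2 fun g =>
      (commutatorElement_eq_one_iff_mul_comm.1 (mem_bot.1 (hl ▸ (show ⁅⁅u, v⁆, g⁆ ∈ lcs R 2 from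
        comm_mem_succ 1 (comm_mem_succ 0 (mem_top u) v) g)))).symm
    let N : Subgroup R :=
      { carrier := {c | c ∈ center R ∧ c ^ 3 = 1}
        one_mem' := ⟨one_mem _, one_pow 3⟩
        mul_mem' := fun {u v} hu hv => ⟨mul_mem hu.1 hv.1, by
          rw [(show Commute u v from mem_center_iff.1 hv.1 u).mul_pow, hu.2, hv.2, one_mul]⟩
        inv_mem' := fun {u} hu => ⟨inv_mem hu.1, by rw [inv_pow, hu.2, inv_one]⟩ }
    haveI : N.Normal := ⟨fun c hc g => by
      rwa [mem_center_iff.1 hc.1 g, mul_inv_cancel_right]⟩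
    have hder : ∀ u v : R, ⁅u, v⁆ ∈ N := derived_le_of_gens (R := R) htop N (by
      intro u hu v hv
      refine ⟨hcen u v, ?_⟩
      have hstep : ∀ i : ℕ, u ^ i * v = ⁅u, v⁆ ^ i * (v * u ^ i) := by
        intro i
        induction i with
        | zero => simp
        | succ i ih =>
          rw [pow_succ', mul_assoc, ih, ← mul_assoc u, ← (Commute.pow_left
            (show Commute ⁅u, v⁆ u from (mem_center_iff.1 (hcen u v) u).symm) i).eq, mul_assoc,
            ← mul_assoc u v, show u * v = ⁅u, v⁆ * (v * u) by rw [commutatorElement_def]; group,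
            pow_succ]
          simp only [mul_assoc]
      have h3 := hstep 3
      rw [show u ^ 3 = 1 from hu.2, one_mul, mul_one] at h3
      exact mul_eq_right.1 h3.symm)
    have hexp : ∀ u : R, u ^ 3 = 1 := fun u => by
      have hu : u ∈ closure {x : R | x ∈ (⊤ : Subgroup R) ∧ x ^ 3 = 1} :=
        htop.ge (mem_top u)
      induction hu using closure_induction with
      | mem x hx => exact hx.2
      | one => exact one_pow 3
      | mul x y _ _ hx hy => rw [pow_mul_class_two (by norm_num) hR (fun a b => hder a b), hx, hy, one_mul]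
      | inv x _ hx => rw [inv_pow, hx, inv_one]
    exact hw (hexp w)
  have h1 := CfsgLib.Uniserial.mul_card_le (hR.to_subgroup (⊤ : Subgroup R)) le_rfl
    (lt_top_iff_ne_top.2 hne)
  rw [card_top] at h1
  omega

/-- The data of a three-group of maximal class, of order `3 ^ (2 k)` and rank two. -/
structure MCData (R : Type u) [Group R] (t : R) (k : ℕ) (M U : Subgroup R) : Prop where
  hM : M = twoStep R 1
  index_M : M.index = 3
  lcs_le : lcs R 1 ≤ M
  tM : t ∈ M
  card_U : Nat.card U = 3 ^ 2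
  U_le : U ≤ M
  omega : ∀ m ∈ M, m ^ 3 = 1 → m ∈ U
  cent : ∀ r : R, r ∉ M → Nat.card (centralizer ({r} : Set R)) ≤ 3 ^ 2
  cent_M : ∀ r : R, r ∉ M → ∀ a ∈ M, a * r = r * a → a ∈ zpowers t
  U_comm : ∀ u ∈ U, ∀ m ∈ M, u * m = m * u
  chief : ∀ r : R, r ∉ M → ∀ a ∈ M, ⁅a, r⁆ ∈ zpowers t → a ∈ U
  hom : ∀ a ∈ M, ∀ b ∈ M, (a * b) ^ 3 ^ (k - 1) = a ^ 3 ^ (k - 1) * b ^ 3 ^ (k - 1)
  range : ∀ a ∈ M, a ^ 3 ^ (k - 1) ∈ zpowers t
  ne : ∃ m ∈ M, m ^ 3 ^ (k - 1) ≠ 1
  ker : ∀ a ∈ lcs R 1, a ^ 3 ^ (k - 1) = 1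

theorem mcData (hR : IsPGroup 3 R) (hrank : Cfsg.PRankLE 3 2 R) {k : ℕ} (hk : 2 ≤ k)
    (hn : Nat.card R = 3 ^ (2 * k)) (hmax : lcs R (2 * k - 2) ≠ ⊥) {t : R} (ht : orderOf t = 3)
    (htc : t ∈ center R) : MCData R t k (twoStep R 1) (lcs R (2 * k - 3)) := by
  classical
  set n := 2 * k with hnk
  have h2 : 2 ≤ n := by omega
  set M := twoStep R 1 with hM
  set U := lcs R (n - 3) with hU
  have hMj : ∀ j, 1 ≤ j → j + 3 ≤ n → twoStep R j = M := twoStep_eq hR hn hmax
  have hav : ∀ r : R, r ∉ M → ∀ j, 1 ≤ j → j + 3 ≤ n → r ∉ twoStep R j := fun r hr j h1 h3 => by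
    rw [hMj j h1 h3]; exact hr
  have hl1 : lcs R 1 ≤ M := lcs_one_le_twoStep 1
  have hMne : M ≠ ⊤ := twoStep_ne_top hR hn h2 hmax (j := 1) (by omega)
  have hMi : M.index = 3 := by
    obtain ⟨i, hi⟩ := hR.index M
    refine le_antisymm (index_twoStep_le hR hn h2 hmax le_rfl (by omega)) ?_
    rw [hi]
    exact Nat.le_self_pow (fun e => hMne (index_eq_one.1 (by rw [hi, e, pow_zero]))) 3
  have htM : t ∈ M := mem_twoStep.2 fun g _ => by
    rw [commutatorElement_eq_one_iff_mul_comm.2 (mem_center_iff.1 htc g)]; exact one_mem _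
  have hcent : ∀ r : R, r ∉ M → Nat.card (centralizer ({r} : Set R)) ≤ 3 ^ 2 := fun r hr =>
    card_centralizer_le hR hn (by omega) hmax (fun h => hr (hl1 h)) (hav r hr)
  have hZc : Nat.card (zpowers t) = 3 := by rw [Nat.card_zpowers, ht]
  have hcM : ∀ r : R, r ∉ M → ∀ a ∈ M, a * r = r * a → a ∈ zpowers t := by
    intro r hr a ha har
    set C := centralizer ({r} : Set R) with hC
    have htC : zpowers t ≤ M ⊓ C := zpowers_le.2
      ⟨htM, mem_centralizer_singleton_iff.2 (mem_center_iff.1 htc r).symm⟩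
    have hlt : M ⊓ C < C := lt_of_le_of_ne inf_le_right fun e =>
      hr ((e.ge (mem_centralizer_singleton_iff.2 rfl)).1)
    have h1 := CfsgLib.Uniserial.mul_card_le (hR.to_subgroup C) le_rfl hlt
    have h2 : Nat.card C ≤ 3 ^ 2 := hcent r hr
    have h3 : Nat.card ↥(M ⊓ C) ≤ Nat.card (zpowers t) := by rw [hZc]; omega
    rw [Subgroup.eq_of_le_of_card_ge htC h3]
    exact ⟨ha, mem_centralizer_singleton_iff.2 har⟩
  obtain ⟨s, -, hsM⟩ := SetLike.exists_of_lt (lt_top_iff_ne_top.2 hMne)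
  have hlast : lcs R (n - 2) = zpowers t := by
    refine Subgroup.eq_of_le_of_card_ge (fun z hz => ?_) ?_
    · exact hcM s hsM z (hl1 (lcs_anti (by omega) hz)) (last_central hR hn h2 hmax hz s)
    · rw [hZc, card_lcs hR hn hmax (i := n - 2) (by omega) (by omega),
        show n - 1 - (n - 2) = 1 by omega, pow_one]
  have hUc : Nat.card U = 3 ^ 2 := by
    rw [hU, card_lcs hR hn hmax (i := n - 3) (by omega) (by omega), show n - 1 - (n - 3) = 2 by omega]
  have hUexp : ∀ u ∈ U, u ^ 3 = 1 := fun u hu => by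
    have := MaxClassPow.pow_mem (p := 3) le_rfl (n - 3) (by omega) hR hn (by omega) hmax u hu
    rwa [show n - 3 + 3 - 1 = n - 1 by omega, lcs_last hR hn h2 hmax le_rfl, mem_bot] at this
  have hUM : U ≤ M := (lcs_anti (by omega)).trans hl1
  have hUcomm : ∀ u ∈ U, ∀ m ∈ M, u * m = m * u := fun u hu m hm => by
    rw [← hMj (n - 3) (by omega) (by omega), mem_twoStep] at hm
    refine commutatorElement_eq_one_iff_mul_comm.1 (mem_bot.1 ?_)
    have := hm u hu
    rwa [lcs_last hR hn h2 hmax (by omega)] at this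
  have ht3 : t ^ 3 = 1 := by rw [← ht, pow_orderOf_eq_one]
  have ht1 : t ≠ 1 := fun e => by rw [e, orderOf_one] at ht; norm_num at ht
  have hZU : zpowers t ≤ U := hlast ▸ lcs_anti (by omega)
  have homega : ∀ m ∈ M, m ^ 3 = 1 → m ∈ U := by
    intro m hm hm3
    obtain ⟨u, hu, hut⟩ : ∃ u ∈ U, u ∉ zpowers t := SetLike.not_le_iff_exists.1 fun h => by
      have := card_le_of_le h; rw [hUc, hZc] at this; omega
    have h1 := Cfsg.Agent.S3049.rank_two hrank ht3 (hUexp u hu) hm3 (mem_center_iff.1 htc u).symm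
      (mem_center_iff.1 htc m).symm (hUcomm u hu m hm) ht1 hut
    exact (sup_le hZU (zpowers_le.2 hu)) h1
  have hchief : ∀ r : R, r ∉ M → ∀ a ∈ M, ⁅a, r⁆ ∈ zpowers t → a ∈ U := by
    intro r hr a ha har
    obtain ⟨u, hu, hur⟩ := surj hR hn h2 hmax (a := n - 3) (by omega) (by omega)
      (fun j h1 h3 => hav r hr j (by omega) h3) (y := ⁅a, r⁆)
      (by rw [show n - 3 + 1 = n - 2 by omega, hlast]; exact har)
    rw [commutatorElement_def, commutatorElement_def, mul_left_inj] at hur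
    have h1 : u⁻¹ * a * r = r * (u⁻¹ * a) := by
      calc u⁻¹ * a * r = u⁻¹ * (a * r * a⁻¹) * a := by group
        _ = u⁻¹ * (u * r * u⁻¹) * a := by rw [hur]
        _ = _ := by group
    have h2 := hcM r hr (u⁻¹ * a) (mul_mem (inv_mem (hUM hu)) ha) h1
    have h3 := mul_mem (show u ∈ U from hu) (hZU h2)
    rwa [mul_inv_cancel_left] at h3
  -- `M` is regular
  have hMp : IsPGroup 3 M := hR.to_subgroup M
  have hMexp : ∀ m : M, m ^ 3 = 1 → m ∈ center M := fun m hm => mem_center_iff.2 fun w => Subtype.ext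
    (hUcomm m (homega m m.2 (by simpa using congrArg Subtype.val hm)) w w.2).symm
  have hsm : Huppert.SmallOmega 3 M := by
    show Nat.card ↥(Cfsg.omegaOne 3 (⊤ : Subgroup M)) ≤ 3 ^ 2
    rw [← hUc, ← card_map_of_injective M.subtype_injective]
    refine card_le_of_le (map_le_iff_le_comap.2 ((closure_le _).2 fun m hm => ?_))
    exact homega m m.2 (by simpa using congrArg Subtype.val hm.2)
  have hcyc := RankTwoOdd.cyclic_commutator_of_omega_central (by norm_num : 3 ≠ 2) _ le_rfl hMp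
    hMexp hsm
  have hreg := Huppert.isRegular_of_cyclic_commutator (by norm_num : 3 ≠ 2) hMp hcyc
  have law : ∀ i, Regular.PowLaw 3 i M := fun i a b => hreg.2 a b i
  -- powers in the derived subgroup
  have hpow : ∀ i j, 1 ≤ j → ∀ z ∈ lcs R j, z ^ 3 ^ i ∈ lcs R (min (j + 2 * i) (n - 1)) := by
    intro i
    induction i with
    | zero => intro j hj z hz; rw [pow_zero, pow_one]; exact lcs_anti (by omega) hz
    | succ i ih =>
      intro j hj z hz
      rw [pow_succ', pow_mul]
      rcases Nat.lt_or_ge n (j + 3) with h | h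
      · have h3 : z ^ 3 = 1 := by
          rcases Nat.lt_or_ge j (n - 1) with hj' | hj'
          · have := hUexp z (lcs_anti (by omega : n - 3 ≤ j) hz)
            exact this
          · rw [lcs_last hR hn h2 hmax hj', mem_bot] at hz
            rw [hz, one_pow]
        rw [h3, one_pow]; exact one_mem _
      · have := ih (j + 2) (by omega) (z ^ 3)
          (by simpa using MaxClassPow.pow_mem (p := 3) le_rfl j hj hR hn (by omega) hmax z hz)
        rwa [show j + 2 * (i + 1) = j + 2 + 2 * i by ring]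
  set q := 3 ^ (k - 1) with hq
  have hker : ∀ a ∈ lcs R 1, a ^ q = 1 := fun a ha => by
    have := hpow (k - 1) 1 le_rfl a ha
    rwa [show min (1 + 2 * (k - 1)) (n - 1) = n - 1 by omega, lcs_last hR hn h2 hmax le_rfl,
      mem_bot] at this
  have hhom : ∀ a ∈ M, ∀ b ∈ M, (a * b) ^ q = a ^ q * b ^ q := by
    intro a ha b hb
    obtain ⟨c, hc, e⟩ := law (k - 1) ⟨a, ha⟩ ⟨b, hb⟩
    rw [Regular.powerClosure_eq_bot (fun w hw => ?_), mem_bot] at hc
    · rw [hc, mul_one] at e
      simpa using congrArg Subtype.val e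
    · refine Subtype.ext ?_
      have hw' : (w : R) ∈ lcs R 1 := by
        have h1 : w ∈ (⁅(⊤ : Subgroup M), ⊤⁆ : Subgroup M) := commutator_mono le_top le_top hw
        have h2 : (w : R) ∈ Subgroup.map M.subtype ⁅(⊤ : Subgroup M), (⊤ : Subgroup M)⁆ := mem_map_of_mem _ h1
        rw [map_commutator, ← MonoidHom.range_eq_map, range_subtype] at h2
        exact commutator_mono le_top le_top h2
      simpa using hker _ hw'
  have hne : ∃ m ∈ M, m ^ q ≠ 1 := by
    by_contra hall
    push Not at hall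
    have hcard : ∀ i, Nat.card (Regular.torsion hMp (law i)) ≤ 9 ^ i := by
      intro i
      induction i with
      | zero =>
        have h0 : Regular.torsion hMp (law 0) = ⊥ :=
          eq_bot_iff.2 fun x hx => mem_bot.2 (by simpa [Regular.torsion] using hx)
        rw [h0, card_bot, pow_zero]
      | succ i ih =>
        refine (Huppert.card_le_of_fibre (p := 3) _ (Regular.torsion hMp (law i))
          (U.subgroupOf M) (fun a ha => ?_) (fun a _ b _ e => ?_)).trans ?_
        · show (a ^ 3) ^ 3 ^ i = 1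
          rw [← pow_mul, ← pow_succ']; exact ha
        · refine homega _ (a * b⁻¹).2 ?_
          have := (Regular.pow_eq_iff hMp (law 1) a b).1 (by simpa using e)
          simpa using congrArg Subtype.val this
        · rw [Nat.card_congr (subgroupOfEquivOfLe hUM).toEquiv, hUc, pow_succ 9 i]
          exact Nat.mul_le_mul ih le_rfl
    have h1 := hcard (k - 1)
    have htop : Regular.torsion hMp (law (k - 1)) = ⊤ := eq_top_iff.2 fun m _ =>
      Subtype.ext (by simpa using hall m m.2)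
    rw [htop, card_top] at h1
    have h2 := M.card_mul_index
    rw [hMi, hn] at h2
    have h3 : (9 : ℕ) ^ (k - 1) * 9 = 3 ^ n := by
      rw [← pow_succ, show (9 : ℕ) = 3 ^ 2 by norm_num, ← pow_mul]; congr 1; omega
    have h4 : 0 < (9 : ℕ) ^ (k - 1) := pow_pos (by norm_num) _
    omega
  have hrange : ∀ a ∈ M, a ^ q ∈ zpowers t := by
    intro a ha
    refine hcM s hsM _ (Subgroup.pow_mem _ ha q) ?_
    have hc : ⁅s, a⁆ ∈ lcs R 1 := comm_mem_succ 0 (mem_top s) a
    have h1 : s * a ^ q * s⁻¹ = a ^ q := by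
      rw [← conj_pow, show s * a * s⁻¹ = ⁅s, a⁆ * a by rw [commutatorElement_def]; group,
        hhom _ (hl1 hc) a ha, hker _ hc, one_mul]
    exact (mul_inv_eq_iff_eq_mul.1 h1).symm
  exact ⟨rfl, hMi, hl1, htM, hUc, hUM, homega, hcent, hcM, hUcomm, hchief, hhom, hrange, hne, hker⟩

variable {t : R} {k : ℕ} {M U : Subgroup R}

/-- In a large subgroup outside `M`, the elements of `M` have large centralisers. -/
theorem MCData.mem_iff (D : MCData R t k M U) (hR : IsPGroup 3 R) (htc : t ∈ center R)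
    (ht : orderOf t = 3)
    {H : Subgroup R} (htH : t ∈ H) (hH : 3 ^ 3 < Nat.card H) (hHM : ¬ H ≤ M) {h : R} (hh : h ∈ H) :
    h ∈ M ↔ 9 < Nat.card ↥(H ⊓ centralizer ({h} : Set R)) := by
  constructor
  swap
  · intro h9
    by_contra hM
    have := (card_le_of_le (inf_le_right : H ⊓ centralizer ({h} : Set R) ≤ _)).trans (D.cent h hM)
    omega
  intro hM
  obtain ⟨s, hsH, hsM⟩ := SetLike.not_le_iff_exists.1 hHM
  haveI hMn : M.Normal := ⟨fun m hm g => by
    rw [show g * m * g⁻¹ = ⁅g, m⁆ * m by rw [commutatorElement_def]; group]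
    exact mul_mem (D.lcs_le (comm_mem_succ 0 (mem_top g) m)) hm⟩
  set A := H ⊓ M with hA
  have hA27 : 3 ^ 3 ≤ Nat.card A := by
    have e := relIndex_mul_relIndex (⊥ : Subgroup R) A H bot_le inf_le_left
    rw [relIndex_bot_left, relIndex_bot_left] at e
    have h3 : A.relIndex H ≤ 3 := by
      rw [hA, inf_relIndex_left, ← D.index_M]
      exact Nat.le_of_dvd (Nat.pos_of_ne_zero index_ne_zero_of_finite)
        (relIndex_dvd_index_of_normal M H)
    obtain ⟨i, hi⟩ := IsPGroup.iff_card.1 (hR.to_subgroup H)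
    obtain ⟨j, hj⟩ := IsPGroup.iff_card.1 (hR.to_subgroup A)
    rw [hi] at hH e
    rw [hj] at e ⊢
    have h4 : 3 ^ i ≤ 3 ^ (j + 1) := by
      rw [pow_succ, ← e]; exact Nat.mul_le_mul_left _ h3
    have := (Nat.pow_lt_pow_iff_right (by norm_num : 1 < 3)).1 hH
    have := (Nat.pow_le_pow_iff_right (by norm_num : 1 < 3)).1 h4
    exact Nat.pow_le_pow_right (by norm_num) (by omega)
  have hHA : H ≤ normalizer (A : Set R) := by
    intro g hg
    rw [hA, CfsgLib.Functor.mem_normalizer_iff_cj, CfsgLib.Functor.cj_inf,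
      CfsgLib.Functor.mem_normalizer_iff_cj.1 (le_normalizer hg),
      CfsgLib.Functor.mem_normalizer_iff_cj.1 ((normalizer_eq_top (H := M)).ge (mem_top g))]
  have hZc : Nat.card (zpowers t) = 3 := by rw [Nat.card_zpowers, ht]
  haveI hZn : (zpowers t).Normal := ⟨fun w hw g => by
    rwa [mem_center_iff.1 (zpowers_le.2 htc hw) g, mul_inv_cancel_right]⟩
  have hZA : zpowers t ≤ A := zpowers_le.2 ⟨htH, D.tM⟩
  -- an element of `A` outside `⟨t⟩` central modulo `⟨t⟩`
  obtain ⟨K, hK⟩ := exists_minimal_of_wellFoundedLT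
    (fun K : Subgroup R => zpowers t < K ∧ K ≤ A ∧ H ≤ normalizer (K : Set R))
    ⟨A, lt_of_le_of_ne hZA (fun e => by rw [← e, hZc] at hA27; norm_num at hA27), le_rfl, hHA⟩
  obtain ⟨⟨hZK, hKA, hHK⟩, hKmin⟩ := hK
  have hKH : ⁅K, H⁆ ≤ zpowers t := by
    set L := ⁅K, H⁆ ⊔ zpowers t with hL
    have hLK : L ≤ K := sup_le (CfsgLib.Uniserial.commutator_le_left hHK) hZK.le
    have hHL : H ≤ normalizer (L : Set R) := by
      intro g hg
      rw [hL, CfsgLib.Functor.mem_normalizer_iff_cj, Subgroup.map_sup, map_commutator,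
        CfsgLib.Functor.mem_normalizer_iff_cj.1 (hHK hg),
        CfsgLib.Functor.mem_normalizer_iff_cj.1 (le_normalizer hg),
        CfsgLib.Functor.mem_normalizer_iff_cj.1 ((normalizer_eq_top (H := zpowers t)).ge (mem_top g))]
    by_contra hne
    have hlt : zpowers t < L := lt_of_le_of_ne le_sup_right fun e => hne (le_sup_left.trans e.ge)
    have heq : K ≤ L := hKmin ⟨hlt, hLK.trans hKA, hHL⟩ hLK
    have h1 : ⁅K, H⁆ ≤ ⁅⁅K, H⁆, H⁆ := by
      refine commutator_le.2 fun x hx g hg => ?_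
      obtain ⟨u, hu, v, hv, rfl⟩ := mem_sup_of_normal_right.1 (heq hx)
      have hv' : ∀ w : R, w * v = v * w := mem_center_iff.1 (zpowers_le.2 htc hv)
      have : ⁅u * v, g⁆ = ⁅u, g⁆ := by
        rw [commutatorElement_def, commutatorElement_def, mul_inv_rev]
        calc u * v * g * (v⁻¹ * u⁻¹) * g⁻¹ = u * (v * g) * v⁻¹ * u⁻¹ * g⁻¹ := by group
          _ = u * (g * v) * v⁻¹ * u⁻¹ * g⁻¹ := by rw [hv' g]
          _ = _ := by group
      rw [this]
      exact commutator_mem_commutator hu hg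
    have hnorm : H ≤ normalizer ((⁅K, H⁆ : Subgroup R) : Set R) := fun g hg => by
      rw [CfsgLib.Functor.mem_normalizer_iff_cj, map_commutator,
        CfsgLib.Functor.mem_normalizer_iff_cj.1 (hHK hg),
        CfsgLib.Functor.mem_normalizer_iff_cj.1 (le_normalizer hg)]
    have h2 : ⁅K, H⁆ = ⊥ := CfsgLib.Uniserial.eq_bot_of_le (hR.to_subgroup H)
      ((CfsgLib.Uniserial.commutator_le_left hHK).trans (hKA.trans inf_le_left)) le_rfl h1
    exact hne (h2 ▸ bot_le)
  obtain ⟨a, haK, haZ⟩ := SetLike.exists_of_lt hZK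
  have haU : a ∈ U := D.chief s hsM a (hKA haK).2 (hKH (commutator_mem_commutator haK hsH))
  have hUH : U ≤ H := by
    have hlt : zpowers t < zpowers t ⊔ zpowers a := lt_of_le_of_ne le_sup_left fun e =>
      haZ (e.ge (mem_sup_right (mem_zpowers a)))
    have h1 := CfsgLib.Uniserial.mul_card_le (hR.to_subgroup (zpowers t ⊔ zpowers a)) le_rfl hlt
    rw [hZc] at h1
    have ht3 : t ^ 3 = 1 := by rw [← ht, pow_orderOf_eq_one]
    rw [← Subgroup.eq_of_le_of_card_ge
      (sup_le (zpowers_le.2 (D.omega t D.tM ht3)) (zpowers_le.2 haU))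
      (by rw [D.card_U]; exact h1)]
    exact sup_le (zpowers_le.2 htH) (zpowers_le.2 (hKA haK).1)
  have hUc : U ≤ H ⊓ centralizer ({h} : Set R) :=
    le_inf hUH fun u hu => mem_centralizer_singleton_iff.2 (D.U_comm u hu h hM)
  by_cases hhU : h ∈ U
  · have h1 : A ≤ H ⊓ centralizer ({h} : Set R) := le_inf inf_le_left fun m hm =>
      mem_centralizer_singleton_iff.2 (D.U_comm h hhU m hm.2).symm
    exact lt_of_lt_of_le (by norm_num) (hA27.trans (card_le_of_le h1))
  · have hlt : U < H ⊓ centralizer ({h} : Set R) := lt_of_le_of_ne hUc fun e =>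
      hhU (e.ge ⟨hh, mem_centralizer_singleton_iff.2 rfl⟩)
    have h1 := CfsgLib.Uniserial.mul_card_le
      (hR.to_subgroup (H ⊓ centralizer ({h} : Set R))) le_rfl hlt
    rw [D.card_U] at h1
    omega

end Three

end CfsgLib.IsolRankTwo
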